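import Groth.Agent.Lib.SecComp6.Nhd
import Groth.Agent.Lib.RedSmooth.Basic

/-!
# The components through a section of a smooth morphism form an open set
-/

set_option autoImplicit false
set_option linter.style.haveILetI false

universe u

open CategoryTheory CategoryTheory.Limits AlgebraicGeometry TopologicalSpace Topology

namespace GrothLib.SecComp6

/-- In a locally noetherian scheme a point of a connected component is joined to the base point inside
any open set containing a suitable finite set of points. -/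
theorem exists_finite_linking {T : Scheme.{u}} [IsLocallyNoetherian T] {a x : T} (hx : x ∈ connectedComponent a) :
    ∃ F : Set T, F.Finite ∧ a ∈ F ∧ x ∈ F ∧ ∀ W : Set T, IsOpen W → F ⊆ W → x ∈ connectedComponentIn W a := by
  classical
  let G : Set T := {x | ∃ F : Set T, F.Finite ∧ a ∈ F ∧ x ∈ F ∧ ∀ W : Set T, IsOpen W → F ⊆ W → x ∈ connectedComponentIn W a}
  have key : ∀ z : T, ∃ N : Set T, IsOpen N ∧ z ∈ N ∧ ∀ v ∈ N, (z ∈ G → v ∈ G) ∧ (v ∈ G → z ∈ G) := by
    intro z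
    obtain ⟨_, ⟨(U : T.Opens), hU, rfl⟩, hzU, -⟩ := T.isBasis_affineOpens.exists_subset_of_mem_open
      (Set.mem_univ z) isOpen_univ
    haveI : IsNoetherianRing Γ(T, U) := IsLocallyNoetherian.component_noetherian ⟨U, hU⟩
    haveI : NoetherianSpace (Spec Γ(T, U)) := inferInstanceAs (NoetherianSpace (PrimeSpectrum Γ(T, U)))
    let S : Set (Set (Spec Γ(T, U))) := {Z ∈ irreducibleComponents (Spec Γ(T, U)) | ∀ q ∈ Z, hU.fromSpec q ≠ z}
    have hScl : IsClosed (⋃ Z ∈ S, Z) := Set.Finite.isClosed_biUnion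
      (NoetherianSpace.finite_irreducibleComponents.subset fun Z hZ => hZ.1)
      fun Z hZ => isClosed_of_mem_irreducibleComponents Z hZ.1
    refine ⟨hU.fromSpec '' (⋃ Z ∈ S, Z)ᶜ, hU.fromSpec.isOpenEmbedding.isOpenMap _ hScl.isOpen_compl, ?_, ?_⟩
    · obtain ⟨q, hq⟩ := hU.range_fromSpec.ge hzU
      refine ⟨q, fun hmem => ?_, hq⟩
      obtain ⟨Z, hZ, hqZ⟩ := Set.mem_iUnion₂.1 hmem
      exact hZ.2 q hqZ hq
    rintro _ ⟨q, hq, rfl⟩
    obtain ⟨qz, hqz, hqzz⟩ : ∃ qz ∈ irreducibleComponent q, hU.fromSpec qz = z := by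
      by_contra hc
      push_neg at hc
      exact hq (Set.mem_biUnion (x := irreducibleComponent q)
        ⟨irreducibleComponent_mem_irreducibleComponents q, hc⟩ mem_irreducibleComponent)
    let Z : Set T := hU.fromSpec '' irreducibleComponent q
    have hZ : IsIrreducible Z := isIrreducible_irreducibleComponent.image _ hU.fromSpec.continuous.continuousOn
    have hlink : ∀ u w : T, u ∈ Z → w ∈ Z → u ∈ G → w ∈ G := by
      rintro u w hu hw ⟨F, hF, haF, huF, hall⟩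
      refine ⟨insert w F, hF.insert w, Set.mem_insert_of_mem _ haF, Set.mem_insert _ _, fun W hW hsub => ?_⟩
      have huW : u ∈ W := hsub (Set.mem_insert_of_mem _ huF)
      have hpre : IsPreirreducible (Z ∩ W) := by
        intro U₁ U₂ h₁ h₂ ⟨x₁, ⟨hx₁, hx₁W⟩, hx₁U⟩ ⟨x₂, ⟨hx₂, hx₂W⟩, hx₂U⟩
        obtain ⟨y, hy, hy₁, hy₂⟩ := hZ.isPreirreducible (U₁ ∩ W) (U₂ ∩ W) (h₁.inter hW) (h₂.inter hW)
          ⟨x₁, hx₁, hx₁U, hx₁W⟩ ⟨x₂, hx₂, hx₂U, hx₂W⟩
        exact ⟨y, ⟨hy, hy₁.2⟩, hy₁.1, hy₂.1⟩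
      rw [connectedComponentIn_eq (hall W hW ((Set.subset_insert _ _).trans hsub))]
      exact hpre.isPreconnected.subset_connectedComponentIn ⟨hu, huW⟩ Set.inter_subset_right
        ⟨hw, hsub (Set.mem_insert _ _)⟩
    exact ⟨hlink z _ ⟨qz, hqz, hqzz⟩ ⟨q, mem_irreducibleComponent, rfl⟩,
      hlink _ z ⟨q, mem_irreducibleComponent, rfl⟩ ⟨qz, hqz, hqzz⟩⟩
  choose N hNo hzN hN using key
  have hclop : IsClopen G := by
    constructor
    · rw [← isOpen_compl_iff, isOpen_iff_forall_mem_open]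
      exact fun z hz => ⟨N z, fun v hv hvG => hz ((hN z v hv).2 hvG), hNo z, hzN z⟩
    · rw [isOpen_iff_forall_mem_open]
      exact fun z hz => ⟨N z, fun v hv => (hN z v hv).1 hz, hNo z, hzN z⟩
  exact hclop.connectedComponent_subset
    (show a ∈ G from ⟨{a}, Set.finite_singleton a, rfl, rfl, fun W _ hW => mem_connectedComponentIn (hW rfl)⟩) hx

theorem geometricallyReduced_of_smooth {X Y : Scheme.{u}} (f : X ⟶ Y) [Smooth f] : GeometricallyReduced f :=
  ⟨fun K _ t Z i q hsq => by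
    haveI : Smooth q := MorphismProperty.of_isPullback hsq ‹Smooth f›
    exact RedSmooth.isReduced_of_smooth q⟩

theorem isOpen_sectionComponents_smooth {S X : Scheme.{u}} [QuasiSeparatedSpace X] (f : X ⟶ S) [Smooth f]
    (e : S ⟶ X) (he : e ≫ f = 𝟙 S) : IsOpen (MoreMor.sectionComponents f e) := by
  classical
  rw [isOpen_iff_forall_mem_open]
  intro x hx
  obtain ⟨y, hfx⟩ : ∃ y, f x = y := ⟨_, rfl⟩
  have hx' : x ∈ connectedComponentIn (f ⁻¹' {y}) (e y) := hfx ▸ hx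
  obtain ⟨_, ⟨(V₀ : S.Opens), hV₀, rfl⟩, hyV₀, -⟩ := S.isBasis_affineOpens.exists_subset_of_mem_open
    (Set.mem_univ y) isOpen_univ
  haveI : LocallyOfFiniteType (f.fiberToSpecResidueField y) := MorphismProperty.pullback_snd f _ inferInstance
  haveI : IsLocallyNoetherian (f.fiber y) := LocallyOfFiniteType.isLocallyNoetherian (f.fiberToSpecResidueField y)
  have hey : f (e y) = y := by rw [← Scheme.Hom.comp_apply, he]; rfl
  obtain ⟨a, ha⟩ := (f.range_fiberι y).ge hey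
  obtain ⟨b, hb⟩ := (f.range_fiberι y).ge hfx
  have hcomp : b ∈ connectedComponent a := by
    rw [← ha, ← hb, ← f.range_fiberι y, connectedComponentIn_range (f.fiberι y).isEmbedding,
      (f.fiberι y).isEmbedding.injective.mem_set_image] at hx'
    exact hx'
  obtain ⟨F, hF, haF, hbF, hlink⟩ := exists_finite_linking hcomp
  have hchoose : ∀ q : f.fiber y, ∃ W : X.Opens, IsAffineOpen W ∧ f.fiberι y q ∈ W ∧ W ≤ f ⁻¹ᵁ V₀ := by
    intro q
    have hq : f.fiberι y q ∈ f ⁻¹ᵁ V₀ := by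
      show f (f.fiberι y q) ∈ V₀
      rw [(f.range_fiberι y).le ⟨q, rfl⟩]
      exact hyV₀
    obtain ⟨_, ⟨W, hW, rfl⟩, hqW, hWV⟩ := X.isBasis_affineOpens.exists_subset_of_mem_open hq (f ⁻¹ᵁ V₀).isOpen
    exact ⟨W, hW, hqW, hWV⟩
  choose Wq hWaff hqW hWV using hchoose
  let W : X.Opens := ⨆ q ∈ hF.toFinset, Wq q
  have hWmem : ∀ q ∈ F, f.fiberι y q ∈ W := fun q hq =>
    TopologicalSpace.Opens.mem_iSup.2 ⟨q, TopologicalSpace.Opens.mem_iSup.2 ⟨hF.mem_toFinset.2 hq, hqW q⟩⟩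
  have hWle : W ≤ f ⁻¹ᵁ V₀ := iSup₂_le fun q _ => hWV q
  have hWc : IsCompact (W : Set X) := by
    have : (W : Set X) = ⋃ q ∈ hF.toFinset, (Wq q : Set X) := by simp [W]
    rw [this]
    exact hF.toFinset.isCompact_biUnion fun q _ => (hWaff q).isCompact
  obtain ⟨r, hrle, hyr⟩ := hV₀.exists_basicOpen_le (V := e ⁻¹ᵁ W) ⟨y, by
    show e y ∈ W; rw [← ha]; exact hWmem a haF⟩ hyV₀
  let V : S.Opens := S.basicOpen r
  let W' : X.Opens := W ⊓ f ⁻¹ᵁ V
  haveI : IsAffine (V : Scheme.{u}) := hV₀.basicOpen r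
  have hW'c : IsCompact (W' : Set X) := by
    have : W' = W ⊓ X.basicOpen (f.app V₀ r) := by rw [← Scheme.preimage_basicOpen]
    rw [this]
    obtain ⟨U, hU⟩ : ∃ U : X.Opens, U = W ⊓ X.basicOpen (f.app V₀ r) := ⟨_, rfl⟩
    have hres : U = X.basicOpen (X.presheaf.map (homOfLE hWle).op (f.app V₀ r)) := by
      rw [hU, Scheme.basicOpen_res]
    rw [← hU, hres]
    exact isCompact_basicOpen X hWc (X.presheaf.map (homOfLE hWle).op (f.app V₀ r))
  let f' : (W' : Scheme.{u}) ⟶ (V : Scheme.{u}) := f.resLE V W' inf_le_right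
  haveI : Smooth f' := by
    haveI : Smooth (f' ≫ V.ι) := by rw [Scheme.Hom.resLE_comp_ι]; infer_instance
    exact MorphismProperty.of_postcomp (W := @Smooth) f' V.ι (inferInstance : IsOpenImmersion V.ι) ‹_›
  haveI : CompactSpace W' := isCompact_iff_compactSpace.1 hW'c
  haveI : CompactSpace (W' : Scheme.{u}) := ‹CompactSpace W'›
  haveI : QuasiCompact f' := (HasAffineProperty.iff_of_isAffine (P := @QuasiCompact)).2 ‹CompactSpace (W' : Scheme.{u})›
  haveI : QuasiSeparatedSpace (W' : Scheme.{u}) := W'.ι.isOpenEmbedding.quasiSeparatedSpace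
  haveI : QuasiSeparated f' := inferInstance
  haveI : GeometricallyReduced f' := geometricallyReduced_of_smooth f'
  obtain ⟨e', he'⟩ : ∃ e' : (V : Scheme.{u}) ⟶ (W' : Scheme.{u}), e' ≫ W'.ι = V.ι ≫ e :=
    ⟨_, IsOpenImmersion.lift_fac _ _ (by
      rw [Scheme.Opens.range_ι]
      rintro _ ⟨z, rfl⟩
      refine ⟨hrle z.2, ?_⟩
      show f (e (V.ι z)) ∈ V
      rw [← Scheme.Hom.comp_apply e f, he]
      exact z.2)⟩
  have he'f : e' ≫ f' = 𝟙 _ := by
    rw [← cancel_mono V.ι, Category.assoc, Scheme.Hom.resLE_comp_ι, ← Category.assoc, he', Category.assoc, he,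
      Category.comp_id, Category.id_comp]
  let y' : (V : Scheme.{u}) := ⟨y, hyr⟩
  have hbW : f.fiberι y b ∈ W' := ⟨hWmem b hbF, by show f (f.fiberι y b) ∈ V; rw [hb, hfx]; exact hyr⟩
  let x' : (W' : Scheme.{u}) := ⟨f.fiberι y b, hbW⟩
  have hkey : ∀ z : (W' : Scheme.{u}), f (W'.ι z) = V.ι (f' z) := fun z => by
    rw [← Scheme.Hom.comp_apply, ← Scheme.Hom.comp_apply, Scheme.Hom.resLE_comp_ι]
  have hpreimage : ∀ z : (W' : Scheme.{u}), f' z = y' ↔ f (W'.ι z) = y := fun z => by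
    rw [hkey]
    exact ⟨fun h => h ▸ rfl, fun h => V.ι.isOpenEmbedding.injective h⟩
  have hxin : x' ∈ connectedComponentIn (f' ⁻¹' {y'}) (e' y') := by
    have hsub : ⇑(f.fiberι y) '' connectedComponentIn (⇑(f.fiberι y) ⁻¹' (W : Set X)) a ⊆
        W'.ι '' (f' ⁻¹' {y'}) := by
      rintro _ ⟨q, hq, rfl⟩
      have hqy : f (f.fiberι y q) = y := (f.range_fiberι y).le ⟨q, rfl⟩
      have hqW' : f.fiberι y q ∈ W' := ⟨(connectedComponentIn_subset (⇑(f.fiberι y) ⁻¹' (W : Set X)) a) hq, by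
        show f (f.fiberι y q) ∈ V; rw [hqy]; exact hyr⟩
      exact ⟨⟨_, hqW'⟩, (hpreimage _).2 hqy, rfl⟩
    have hb' : b ∈ connectedComponentIn (⇑(f.fiberι y) ⁻¹' (W : Set X)) a :=
      hlink _ (W.isOpen.preimage (f.fiberι y).continuous) fun q hq => hWmem q hq
    have hpre : _root_.IsPreconnected (⇑(W'.ι) ⁻¹' (⇑(f.fiberι y) '' connectedComponentIn (⇑(f.fiberι y) ⁻¹' (W : Set X)) a)) := by
      rw [← W'.ι.isEmbedding.isInducing.isPreconnected_image,
        Set.image_preimage_eq_of_subset (hsub.trans (Set.image_subset_range _ _))]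
      exact isPreconnected_connectedComponentIn.image _ (f.fiberι y).continuous.continuousOn
    have hea : W'.ι (e' y') = f.fiberι y a := by
      rw [← Scheme.Hom.comp_apply, he', Scheme.Hom.comp_apply, ha]; rfl
    refine hpre.subset_connectedComponentIn ?_ ?_ (show W'.ι x' ∈ ⇑(f.fiberι y) '' connectedComponentIn (⇑(f.fiberι y) ⁻¹' (W : Set X)) a from ⟨b, hb', rfl⟩)
    · exact ⟨a, mem_connectedComponentIn (hWmem a haF), hea.symm⟩
    · intro z hz
      obtain ⟨z', hz', hzz⟩ := hsub hz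
      exact W'.ι.isOpenEmbedding.injective hzz ▸ hz'
  have hint := component_subset_interior f' e' he'f y' inferInstance hxin
  refine ⟨W'.ι '' interior (MoreMor.sectionComponents f' e'), ?_, W'.ι.isOpenEmbedding.isOpenMap _ isOpen_interior,
    ⟨x', hint, hb⟩⟩
  rintro _ ⟨z, hz, rfl⟩
  have hzE : z ∈ connectedComponentIn (f' ⁻¹' {f' z}) (e' (f' z)) := interior_subset (s := MoreMor.sectionComponents f' e') hz
  show W'.ι z ∈ connectedComponentIn (f ⁻¹' {f (W'.ι z)}) (e (f (W'.ι z)))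
  have hez : W'.ι (e' (f' z)) = e (f (W'.ι z)) := by
    rw [← Scheme.Hom.comp_apply, he', Scheme.Hom.comp_apply, hkey]
  rw [← hez]
  have hne : e' (f' z) ∈ f' ⁻¹' {f' z} := by
    show f' (e' (f' z)) = f' z
    rw [← Scheme.Hom.comp_apply, he'f]; rfl
  refine (isPreconnected_connectedComponentIn.image _ W'.ι.continuous.continuousOn).subset_connectedComponentIn
    ⟨_, mem_connectedComponentIn hne, rfl⟩ ?_ ⟨z, hzE, rfl⟩
  rintro _ ⟨v, hv, rfl⟩
  show f (W'.ι v) = f (W'.ι z)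
  rw [hkey, hkey, show f' v = f' z from (connectedComponentIn_subset (⇑f' ⁻¹' {f' z}) (e' (f' z))) hv]

end GrothLib.SecComp6
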