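import Groth.Prelude.Def_MoreMor
import Groth.Agent.Lib.FBase7.Conn

/-!
# Base change of the connected components of fibres through a section
-/

set_option autoImplicit false
set_option linter.style.haveILetI false

universe u

open CategoryTheory CategoryTheory.Limits AlgebraicGeometry Topology

namespace GrothLib.SecComp6

theorem connectedComponentIn_range {Z X : Type*} [TopologicalSpace Z] [TopologicalSpace X] {ι : Z → X}
    (hι : IsEmbedding ι) (a : Z) :
    connectedComponentIn (Set.range ι) (ι a) = ι '' connectedComponent a := by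
  refine Set.Subset.antisymm ?_ ?_
  · have hsub := connectedComponentIn_subset (Set.range ι) (ι a)
    rw [← Set.image_preimage_eq_of_subset hsub]
    refine Set.image_mono (IsPreconnected.subset_connectedComponent ?_
      (mem_connectedComponentIn (Set.mem_range_self a)))
    rw [← hι.isInducing.isPreconnected_image, Set.image_preimage_eq_of_subset hsub]
    exact isPreconnected_connectedComponentIn
  · exact (isPreconnected_connectedComponent.image _ hι.continuous.continuousOn).subset_connectedComponentIn
      ⟨a, mem_connectedComponent, rfl⟩ (Set.image_subset_range _ _)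

theorem geometricallyConnected_id (S : Scheme.{u}) : GeometricallyConnected (𝟙 S) := by
  refine ⟨fun K _ y W fst snd h => ?_⟩
  haveI : IsIso snd := h.isIso_snd_of_isIso
  haveI : ConnectedSpace (Spec (CommRingCat.of K)) := inferInstanceAs (ConnectedSpace (PrimeSpectrum K))
  exact (asIso snd).inv.homeomorph.surjective.connectedSpace (asIso snd).inv.continuous

theorem sectionComponents_baseChange {X Y X' Y' : Scheme.{u}} (f : X ⟶ Y) (s : Y ⟶ X) (hs : s ≫ f = 𝟙 Y)
    (f' : X' ⟶ Y') (g' : X' ⟶ X) (g : Y' ⟶ Y) (hc : IsPullback g' f' f g)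
    (s' : Y' ⟶ X') (hs' : s' ≫ f' = 𝟙 Y') (hs'g : s' ≫ g' = g ≫ s) :
    MoreMor.sectionComponents f' s' = g' ⁻¹' MoreMor.sectionComponents f s := by
  ext x'
  obtain ⟨y', hy'⟩ : ∃ y', f' x' = y' := ⟨_, rfl⟩
  have hy : f (g' x') = g y' := by
    rw [← hy', ← Scheme.Hom.comp_apply, hc.w]; rfl
  show x' ∈ connectedComponentIn (f' ⁻¹' {f' x'}) (s' (f' x')) ↔
    g' x' ∈ connectedComponentIn (f ⁻¹' {f (g' x')}) (s (f (g' x')))
  rw [hy', hy]
  letI : Algebra (Y.residueField (g y')) (Y'.residueField y') := (g.residueFieldMap y').hom.toAlgebra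
  let k := Y.residueField (g y')
  let ff := f.fiberToSpecResidueField (g y')
  let ψ := Spec.map (CommRingCat.ofHom (algebraMap (Y.residueField (g y')) (Y'.residueField y')))
  have hψ : ψ ≫ Y.fromSpecResidueField (g y') = Y'.fromSpecResidueField y' ≫ g :=
    Scheme.Hom.SpecMap_residueFieldMap_fromSpecResidueField g y'
  have sq₁ : IsPullback (f'.fiberι y' ≫ g') (f'.fiberToSpecResidueField y') f
      (Y'.fromSpecResidueField y' ≫ g) := (IsPullback.of_hasPullback _ _).paste_horiz hc
  have sq₂ : IsPullback (pullback.fst ff ψ ≫ f.fiberι (g y')) (pullback.snd ff ψ) f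
      (Y'.fromSpecResidueField y' ≫ g) := by
    rw [← hψ]
    exact (IsPullback.of_hasPullback _ _).paste_horiz (IsPullback.of_hasPullback _ _)
  let e := sq₁.isoIsPullback _ _ sq₂
  let π : f'.fiber y' ⟶ f.fiber (g y') := e.hom ≫ pullback.fst ff ψ
  have hπ : ∀ b, f.fiberι (g y') (π b) = g' (f'.fiberι y' b) := fun b => by
    rw [← Scheme.Hom.comp_apply, ← Scheme.Hom.comp_apply]
    exact congrArg (fun φ : f'.fiber y' ⟶ X => φ b)
      ((Category.assoc _ _ _).trans (IsPullback.isoIsPullback_hom_fst _ _ sq₁ sq₂))
  obtain ⟨b, hb⟩ : ∃ b, f'.fiberι y' b = x' := (f'.range_fiberι y').ge hy'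
  obtain ⟨a', ha'⟩ : ∃ a', f'.fiberι y' a' = s' y' :=
    (f'.range_fiberι y').ge (show f' (s' y') = y' by rw [← Scheme.Hom.comp_apply, hs']; rfl)
  let σ : Spec (Y.residueField (g y')) ⟶ f.fiber (g y') :=
    pullback.lift (Y.fromSpecResidueField (g y') ≫ s) (𝟙 _)
      (by rw [Category.assoc, hs, Category.comp_id, Category.id_comp])
  have hw : σ ≫ ff = 𝟙 _ := pullback.lift_snd _ _ _
  let a := σ (IsLocalRing.closedPoint _)
  have ha : f.fiberι (g y') a = s (g y') := by
    show f.fiberι (g y') (σ _) = _
    rw [← Scheme.Hom.comp_apply, show σ ≫ f.fiberι (g y') = Y.fromSpecResidueField (g y') ≫ s from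
      pullback.lift_fst _ _ _, Scheme.Hom.comp_apply, Scheme.fromSpecResidueField_apply]
  have hπa : π a' = a := (f.fiberι (g y')).isEmbedding.injective (by
    rw [hπ, ha', ha, ← Scheme.Hom.comp_apply, hs'g]; rfl)
  haveI := geometricallyConnected_id (Spec (CommRingCat.of (IsLocalRing.ResidueField (Y.presheaf.stalk (g y')))))
  letI : Algebra (IsLocalRing.ResidueField (Y.presheaf.stalk (g y'))) (Y'.residueField y') :=
    (g.residueFieldMap y').hom.toAlgebra
  have hconn : _root_.IsConnected (⇑π ⁻¹' connectedComponent a) := by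
    have h1 : _root_.IsConnected (⇑(pullback.fst ff ψ) ⁻¹' connectedComponent a) :=
      FBase7.isConnected_preimage_component_range ff (𝟙 _) σ hw (IsLocalRing.closedPoint _) (Y'.residueField y')
    have h2 : (⇑π ⁻¹' connectedComponent a) = (⇑e.hom) ⁻¹' (⇑(pullback.fst ff ψ) ⁻¹' connectedComponent a) := rfl
    rw [h2]
    exact h1.preimage_of_isClosedMap e.hom.isOpenEmbedding.injective e.hom.isClosedEmbedding.isClosedMap
      (by rw [Scheme.Hom.surjective e.hom |>.range_eq]; exact Set.subset_univ _)
  have hcomp : connectedComponent a' = ⇑π ⁻¹' connectedComponent a := by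
    refine Set.Subset.antisymm (fun z hz => ?_) ?_
    · show π z ∈ connectedComponent a
      rw [← hπa]
      exact π.continuous.image_connectedComponent_subset a' ⟨z, hz, rfl⟩
    · exact hconn.isPreconnected.subset_connectedComponent
        (show π a' ∈ connectedComponent a from hπa ▸ mem_connectedComponent)
  rw [← ha', ← hb, ← ha, ← f'.range_fiberι y', ← f.range_fiberι (g y'), ← hπ,
    connectedComponentIn_range (f'.fiberι y').isEmbedding, connectedComponentIn_range (f.fiberι (g y')).isEmbedding,
    (f'.fiberι y').isEmbedding.injective.mem_set_image, (f.fiberι (g y')).isEmbedding.injective.mem_set_image, hcomp]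
  rfl

end GrothLib.SecComp6
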