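import Groth.Agent.Lib.SecComp6.Closure
import Groth.Agent.Lib.LimDescend.FgSub

/-!
# The components through a section form a constructible set
-/

set_option autoImplicit false
set_option linter.style.haveILetI false

universe u

open CategoryTheory CategoryTheory.Limits AlgebraicGeometry TopologicalSpace Topology
open scoped Set.Notation

namespace GrothLib.SecComp6

theorem isConstructible_noetherian {X Y : Scheme.{u}} (f : X ⟶ Y) (s : Y ⟶ X) (hs : s ≫ f = 𝟙 Y)
    [LocallyOfFiniteType f] [QuasiCompact f] [NoetherianSpace Y] [NoetherianSpace X] :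
    IsConstructible (MoreMor.sectionComponents f s) := by
  have hopen : ∀ U : Set X, IsOpen U → IsConstructible U := fun U hU =>
    IsRetrocompact.isConstructible hU fun T _ _ => NoetherianSpace.isCompact _
  have hclosed : ∀ A : Set X, IsClosed A → IsConstructible A := fun A hA =>
    isConstructible_compl.1 (hopen _ hA.isOpen_compl)
  let S := MoreMor.sectionComponents f s
  suffices key : ∀ Z : Closeds Y, IsConstructible (S ∩ f ⁻¹' (Z : Set Y)) by
    have := key ⊤
    rwa [Closeds.coe_top, Set.preimage_univ, Set.inter_univ] at this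
  intro Z
  induction Z using (wellFounded_lt (α := Closeds Y)).induction with
  | _ Z ih => ?_
  by_cases hZ : (Z : Set Y) = ∅
  · rw [hZ, Set.preimage_empty, Set.inter_empty]
    exact IsConstructible.empty
  by_cases hirr : IsIrreducible (Z : Set Y)
  · obtain ⟨η, hη⟩ := QuasiSober.sober hirr Z.2
    obtain ⟨V, hVsub, hηV, hVopen, hclop⟩ := exists_isClopen_closure f s hs η
    rw [hη.def] at hVsub hVopen
    obtain ⟨O, hO, hOV⟩ := isOpen_induced_iff.1 hVopen
    have hVeq : V = (Z : Set Y) ∩ O := by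
      ext z
      exact ⟨fun hz => ⟨hVsub hz, hOV.ge (show (⟨z, hVsub hz⟩ : (Z : Set Y)) ∈ Subtype.val ⁻¹' V from hz)⟩,
        fun ⟨hz, hzO⟩ => hOV.le (show (⟨z, hz⟩ : (Z : Set Y)) ∈ Subtype.val ⁻¹' O from hzO)⟩
    let Z' : Closeds Y := ⟨(Z : Set Y) ∩ Oᶜ, Z.2.inter hO.isClosed_compl⟩
    have hlt : Z' < Z := lt_of_le_not_ge (fun _ h => h.1) fun h => by
      exact (h (hVsub hηV)).2 ((hVeq.le hηV).2)
    obtain ⟨O', hO', hO'eq⟩ := isOpen_induced_iff.1 hclop.2
    have hSV : S ∩ f ⁻¹' V = O' ∩ (f ⁻¹' (Z : Set Y) ∩ f ⁻¹' O) := by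
      ext x
      constructor
      · rintro ⟨hx, hxV⟩
        exact ⟨hO'eq.ge (show (⟨x, hxV⟩ : f ⁻¹' V) ∈ Subtype.val ⁻¹' S from hx), hVeq.le hxV⟩
      · rintro ⟨hx, hxV⟩
        have hxV' : f x ∈ V := hVeq.ge hxV
        exact ⟨hO'eq.le (show (⟨x, hxV'⟩ : f ⁻¹' V) ∈ Subtype.val ⁻¹' O' from hx), hxV'⟩
    have hsplit : S ∩ f ⁻¹' (Z : Set Y) = S ∩ f ⁻¹' V ∪ S ∩ f ⁻¹' (Z' : Set Y) := by
      rw [hVeq, ← Set.inter_union_distrib_left, ← Set.preimage_union]
      congr 2
      ext z
      exact ⟨fun hz => (em (z ∈ O)).imp (fun h => ⟨hz, h⟩) (fun h => ⟨hz, h⟩), fun h => h.elim And.left And.left⟩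
    rw [hsplit, hSV]
    exact ((hopen _ hO').inter ((hclosed _ (Z.2.preimage f.continuous)).inter
      (hopen _ (hO.preimage f.continuous)))).union (ih Z' hlt)
  · have hne : (Z : Set Y).Nonempty := Set.nonempty_iff_ne_empty.2 hZ
    obtain ⟨u, v, hu, hv, huv, h1, h2⟩ : ∃ u v : Set Y, IsClosed u ∧ IsClosed v ∧ (Z : Set Y) ⊆ u ∪ v ∧
        ¬ (Z : Set Y) ⊆ u ∧ ¬ (Z : Set Y) ⊆ v := by
      by_contra hc
      refine hirr ⟨hne, isPreirreducible_iff_isClosed_union_isClosed.2 fun u v hu hv huv => ?_⟩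
      by_contra h
      rw [not_or] at h
      exact hc ⟨u, v, hu, hv, huv, h.1, h.2⟩
    let Z₁ : Closeds Y := ⟨(Z : Set Y) ∩ u, Z.2.inter hu⟩
    let Z₂ : Closeds Y := ⟨(Z : Set Y) ∩ v, Z.2.inter hv⟩
    have hlt₁ : Z₁ < Z := lt_of_le_not_ge (fun _ h => h.1) fun h => h1 fun z hz => (h hz).2
    have hlt₂ : Z₂ < Z := lt_of_le_not_ge (fun _ h => h.1) fun h => h2 fun z hz => (h hz).2
    have : S ∩ f ⁻¹' (Z : Set Y) = S ∩ f ⁻¹' (Z₁ : Set Y) ∪ S ∩ f ⁻¹' (Z₂ : Set Y) := by
      rw [← Set.inter_union_distrib_left, ← Set.preimage_union]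
      congr 2
      ext z
      exact ⟨fun hz => (huv hz).imp (fun h => ⟨hz, h⟩) (fun h => ⟨hz, h⟩), fun h => h.elim And.left And.left⟩
    rw [this]
    exact (ih Z₁ hlt₁).union (ih Z₂ hlt₂)

open LimDescend in
theorem isConstructible_Spec {A : Type u} [CommRing A] {X : Scheme.{u}} (f : X ⟶ Spec (CommRingCat.of A))
    (s : Spec (CommRingCat.of A) ⟶ X) (hs : s ≫ f = 𝟙 _)
    [LocallyOfFinitePresentation f] [QuasiCompact f] [QuasiSeparated f] :
    IsConstructible (MoreMor.sectionComponents f s) := by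
  let f₁ : X ⟶ (fgCone A).pt := f
  haveI : LocallyOfFinitePresentation f₁ := ‹LocallyOfFinitePresentation f›
  haveI : QuasiCompact f₁ := ‹QuasiCompact f›
  haveI : QuasiSeparated f₁ := ‹QuasiSeparated f›
  obtain ⟨i, ⟨M⟩⟩ := exists_model (fgDiagram A) (fgCone A) (isLimitFgCone A) f₁
  let t : (Over.forget i ⋙ fgDiagram A) ⟶ (Functor.const (Over i)).obj ((fgDiagram A).obj i) :=
    { app := fun k => (fgDiagram A).map k.hom
      naturality := fun a b φ => by
        show (fgDiagram A).map φ.left ≫ (fgDiagram A).map b.hom = (fgDiagram A).map a.hom ≫ 𝟙 _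
        rw [Category.comp_id, ← Functor.map_comp, Over.w] }
  haveI : ∀ k : Over i, CompactSpace ((Over.forget i ⋙ fgDiagram A).obj k) := fun k =>
    inferInstanceAs (CompactSpace ((fgDiagram A).obj k.left))
  haveI : ∀ k : Over i, QuasiSeparatedSpace ((Over.forget i ⋙ fgDiagram A).obj k) := fun k =>
    inferInstanceAs (QuasiSeparatedSpace ((fgDiagram A).obj k.left))
  haveI : ∀ {a b : Over i} (φ : a ⟶ b), IsAffineHom ((Over.forget i ⋙ fgDiagram A).map φ) := fun φ =>
    inferInstanceAs (IsAffineHom ((fgDiagram A).map φ.left))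
  let s₁ : (fgCone A).pt ⟶ X := s
  obtain ⟨k, g, hg, hg'⟩ := Scheme.exists_π_app_comp_eq_of_locallyOfFinitePresentation
    (Over.forget i ⋙ fgDiagram A) t M.hom ((fgCone A).whisker (Over.forget i))
    ((Functor.Initial.isLimitWhiskerEquiv _ _).symm (isLimitFgCone A)) (s₁ ≫ M.proj) (by
      ext k : 2
      show (fgCone A).π.app k.left ≫ (fgDiagram A).map k.hom = (s₁ ≫ M.proj) ≫ M.hom
      rw [(fgCone A).w, Category.assoc, M.isPullback.w, ← Category.assoc]
      show _ = (s ≫ f) ≫ _
      rw [hs]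
      exact (Category.id_comp _).symm)
  let N := Model.map (fgDiagram A) (fgCone A) M k.hom
  let s₀ : (fgDiagram A).obj k.left ⟶ N.obj := pullback.lift g (𝟙 _) (by
    rw [Category.id_comp]; exact hg')
  have hs₀ : s₀ ≫ N.hom = 𝟙 _ := pullback.lift_snd _ _ _
  let π : Spec (CommRingCat.of A) ⟶ (fgDiagram A).obj k.left := (fgCone A).π.app k.left
  have hcompat : s ≫ N.proj = π ≫ s₀ := by
    apply pullback.hom_ext
    · simp only [N, s₀, Model.map, Category.assoc, pullback.lift_fst]
      exact hg.symm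
    · simp only [N, s₀, Model.map, Category.assoc, pullback.lift_snd]
      show s ≫ f ≫ π = π ≫ 𝟙 _
      rw [← Category.assoc, hs, Category.id_comp, Category.comp_id]
  haveI : Algebra.FiniteType ℤ k.left.unop.1 := k.left.unop.1.fg_iff_finiteType.mp k.left.unop.2
  haveI : IsNoetherianRing k.left.unop.1 := Algebra.FiniteType.isNoetherianRing ℤ k.left.unop.1
  haveI : AlgebraicGeometry.IsNoetherian ((fgDiagram A).obj k.left) :=
    inferInstanceAs (AlgebraicGeometry.IsNoetherian (Spec (CommRingCat.of k.left.unop.1)))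
  haveI : IsLocallyNoetherian N.obj := LocallyOfFiniteType.isLocallyNoetherian N.hom
  haveI : CompactSpace N.obj := QuasiCompact.compactSpace_of_compactSpace N.hom
  haveI : AlgebraicGeometry.IsNoetherian N.obj := {}
  have hpb : IsPullback N.proj f N.hom π := N.isPullback
  rw [sectionComponents_baseChange N.hom s₀ hs₀ f N.proj π hpb s hs hcompat]
  haveI : IsAffineHom π := isAffineHom_of_isAffine _
  haveI : IsAffineHom N.proj := MorphismProperty.of_isPullback hpb.flip ‹IsAffineHom π›
  exact N.proj.isConstructible_preimage (isConstructible_noetherian N.hom s₀ hs₀)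

theorem isLocallyConstructible_sectionComponents {X Y : Scheme.{u}} (f : X ⟶ Y) (s : Y ⟶ X) (hs : s ≫ f = 𝟙 Y)
    [LocallyOfFinitePresentation f] [QuasiCompact f] [QuasiSeparated f] :
    IsLocallyConstructible (MoreMor.sectionComponents f s) := by
  intro x
  obtain ⟨_, ⟨(V : Y.Opens), hV, rfl⟩, hy, -⟩ := Y.isBasis_affineOpens.exists_subset_of_mem_open
    (Set.mem_univ (f x)) isOpen_univ
  let j := hV.fromSpec
  let f' := pullback.snd f j
  let g' := pullback.fst f j
  haveI : LocallyOfFinitePresentation f' := MorphismProperty.pullback_snd f _ inferInstance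
  haveI : QuasiCompact f' := MorphismProperty.pullback_snd f _ inferInstance
  haveI : QuasiSeparated f' := MorphismProperty.pullback_snd f _ inferInstance
  let s' : Spec Γ(Y, V) ⟶ pullback f j :=
    pullback.lift (j ≫ s) (𝟙 _) (by rw [Category.assoc, hs, Category.comp_id, Category.id_comp])
  have hsec := sectionComponents_baseChange f s hs f' g' j (IsPullback.of_hasPullback f j) s'
    (pullback.lift_snd _ _ _) (pullback.lift_fst _ _ _)
  have hcon : IsConstructible (MoreMor.sectionComponents f' s') :=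
    isConstructible_Spec (A := Γ(Y, V)) f' s' (pullback.lift_snd _ _ _)
  rw [hsec] at hcon
  have hx : (x : X) ∈ (Set.range g' : Set X) := by
    rw [Scheme.Pullback.range_fst, hV.range_fromSpec]
    exact hy
  refine ⟨Set.range g', g'.isOpenEmbedding.isOpen_range.mem_nhds hx, g'.isOpenEmbedding.isOpen_range, ?_⟩
  let e := g'.isEmbedding.toHomeomorph
  have : (Set.range g' ↓∩ MoreMor.sectionComponents f s) = e.symm ⁻¹' (g' ⁻¹' MoreMor.sectionComponents f s) := by
    ext z
    obtain ⟨w, rfl⟩ := e.surjective z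
    show g' w ∈ MoreMor.sectionComponents f s ↔ g' (e.symm (e w)) ∈ MoreMor.sectionComponents f s
    rw [e.symm_apply_apply]
  rw [this]
  exact hcon.preimage_of_isOpenEmbedding e.symm.isOpenEmbedding

end GrothLib.SecComp6
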