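import Groth.Agent.Lib.SecComp6.Smooth
import Groth.Agent.Lib.BaseChange.Field

/-!
# Components of the fibres meeting the image of a universally open multisection
-/

set_option autoImplicit false
set_option linter.style.haveILetI false

universe u

open CategoryTheory CategoryTheory.Limits AlgebraicGeometry TopologicalSpace Topology

namespace GrothLib.SecComp6

/-- The projection between fibres along a change of base point maps components onto components. -/
theorem image_fiber_component {X Y X' Y' : Scheme.{u}} (f : X ⟶ Y) (f' : X' ⟶ Y') (g' : X' ⟶ X) (g : Y' ⟶ Y)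
    (hc : IsPullback g' f' f g) (y' : Y') (a' : X') (ha' : f' a' = y') :
    g' '' connectedComponentIn (f' ⁻¹' {y'}) a' = connectedComponentIn (f ⁻¹' {g y'}) (g' a') := by
  letI : Algebra (Y.residueField (g y')) (Y'.residueField y') := (g.residueFieldMap y').hom.toAlgebra
  let ff := f.fiberToSpecResidueField (g y')
  let ψ := Spec.map (CommRingCat.ofHom (algebraMap (Y.residueField (g y')) (Y'.residueField y')))
  have hψ : ψ ≫ Y.fromSpecResidueField (g y') = Y'.fromSpecResidueField y' ≫ g :=
    Scheme.Hom.SpecMap_residueFieldMap_fromSpecResidueField g y'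
  have sq₁ : IsPullback (f'.fiberι y' ≫ g') (f'.fiberToSpecResidueField y') f
      (Y'.fromSpecResidueField y' ≫ g) := (IsPullback.of_hasPullback _ _).paste_horiz hc
  have sq₂ : IsPullback (pullback.fst ff ψ ≫ f.fiberι (g y')) (pullback.snd ff ψ) f
      (Y'.fromSpecResidueField y' ≫ g) := by
    rw [← hψ]
    exact (IsPullback.of_hasPullback _ _).paste_horiz (IsPullback.of_hasPullback _ _)
  let e := sq₁.isoIsPullback _ _ sq₂
  have hπ : ∀ b, f.fiberι (g y') (pullback.fst ff ψ (e.hom b)) = g' (f'.fiberι y' b) := fun b => by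
    rw [← Scheme.Hom.comp_apply, ← Scheme.Hom.comp_apply, ← Scheme.Hom.comp_apply]
    exact congrArg (fun φ : f'.fiber y' ⟶ X => φ b)
      ((Category.assoc _ _ _).trans (IsPullback.isoIsPullback_hom_fst _ _ sq₁ sq₂))
  obtain ⟨b, hb⟩ := (f'.range_fiberι y').ge ha'
  letI : (f.fiber (g y')).Over (Spec (CommRingCat.of (IsLocalRing.ResidueField (Y.presheaf.stalk (g y'))))) := ⟨ff⟩
  letI : Algebra (IsLocalRing.ResidueField (Y.presheaf.stalk (g y'))) (Y'.residueField y') :=
    (g.residueFieldMap y').hom.toAlgebra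
  have hcomp : ⇑(pullback.fst ff ψ) '' connectedComponent (e.hom b) = connectedComponent (pullback.fst ff ψ (e.hom b)) :=
    BaseChange.image_connectedComponent (IsLocalRing.ResidueField (Y.presheaf.stalk (g y'))) (f.fiber (g y'))
      (Y'.residueField y') (e.hom b)
  have heq : ⇑e.hom '' connectedComponent b = connectedComponent (e.hom b) := by
    refine Set.Subset.antisymm (e.hom.continuous.image_connectedComponent_subset b) fun z hz => ?_
    refine ⟨e.inv z, ?_, by rw [← Scheme.Hom.comp_apply, Iso.inv_hom_id]; rfl⟩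
    have h1 := e.inv.continuous.image_connectedComponent_subset (e.hom b) ⟨z, hz, rfl⟩
    rwa [← Scheme.Hom.comp_apply e.hom e.inv, Iso.hom_inv_id] at h1
  rw [← hb, ← f'.range_fiberι y', ← f.range_fiberι (g y'), connectedComponentIn_range (f'.fiberι y').isEmbedding,
    ← hπ, connectedComponentIn_range (f.fiberι (g y')).isEmbedding, Set.image_image,
    ← hcomp, ← heq, Set.image_image, Set.image_image]
  exact Set.image_congr fun z _ => (hπ z).symm

theorem exists_open_components_meeting {S S' X : Scheme.{u}} (f : X ⟶ S)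
    [Smooth f] [QuasiCompact f] [QuasiSeparated f] (g : S' ⟶ S) [UniversallyOpen g] (e : S' ⟶ X)
    (he : e ≫ f = g) :
    ∃ U : X.Opens, ∀ s : S, (U : Set ↥X) ∩ f.base ⁻¹' {s} =
      ⋃ x ∈ Set.range e.base ∩ f.base ⁻¹' {s}, connectedComponentIn (f.base ⁻¹' {s}) x := by
  let f' := pullback.snd f g
  let g' := pullback.fst f g
  haveI : Smooth f' := MorphismProperty.pullback_snd f g inferInstance
  haveI : QuasiCompact f' := MorphismProperty.pullback_snd f g inferInstance
  haveI : QuasiSeparated f' := MorphismProperty.pullback_snd f g inferInstance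
  haveI : GeometricallyReduced f' := geometricallyReduced_of_smooth f'
  let e' : S' ⟶ pullback f g := pullback.lift e (𝟙 _) (he.trans (Category.id_comp _).symm)
  have he' : e' ≫ f' = 𝟙 _ := pullback.lift_snd _ _ _
  have he'g : ∀ z, g' (e' z) = e z := fun z => by
    rw [← Scheme.Hom.comp_apply, pullback.lift_fst]
  have hopen : IsOpen (MoreMor.sectionComponents f' e') := isOpen_iff_forall_mem_open.2 fun x hx =>
    ⟨interior _, interior_subset, isOpen_interior,
      component_subset_interior f' e' he' (f' x) inferInstance hx⟩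
  refine ⟨⟨g' '' MoreMor.sectionComponents f' e', g'.isOpenMap _ hopen⟩, fun s => ?_⟩
  have hfe : ∀ z, f (e z) = g z := fun z => by rw [← Scheme.Hom.comp_apply, he]
  have himg : ∀ z, g' '' connectedComponentIn (f' ⁻¹' {z}) (e' z) = connectedComponentIn (f ⁻¹' {g z}) (e z) :=
    fun z => by
      rw [image_fiber_component f f' g' g (IsPullback.of_hasPullback f g) z (e' z)
        (by rw [← Scheme.Hom.comp_apply, he']; rfl), he'g]
  ext x
  rw [Set.mem_iUnion₂]
  constructor
  · rintro ⟨⟨x', hx', rfl⟩, hs⟩
    have hx'' : g' x' ∈ connectedComponentIn (f ⁻¹' {g (f' x')}) (e (f' x')) := (himg _).le ⟨x', hx', rfl⟩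
    have hgs : g (f' x') = s := by
      rw [← (connectedComponentIn_subset (f ⁻¹' {g (f' x')}) (e (f' x'))) hx'']
      exact hs
    exact ⟨e (f' x'), ⟨⟨_, rfl⟩, (hfe _).trans hgs⟩, hgs ▸ hx''⟩
  · rintro ⟨_, ⟨⟨z, rfl⟩, hz⟩, hx⟩
    have hgz : g z = s := (hfe z).symm.trans hz
    refine ⟨?_, connectedComponentIn_subset _ _ hx⟩
    subst hgz
    obtain ⟨x', hx', rfl⟩ := (himg z).ge hx
    refine ⟨x', ?_, rfl⟩
    show x' ∈ connectedComponentIn (f' ⁻¹' {f' x'}) (e' (f' x'))
    rw [(connectedComponentIn_subset (f' ⁻¹' {z}) (e' z)) hx']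
    exact hx'

end GrothLib.SecComp6
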