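import Groth.Agent.Lib.SecComp6.Generic

/-!
# The component through a section on the closure of a point
-/

set_option autoImplicit false
set_option linter.style.haveILetI false

universe u

open CategoryTheory CategoryTheory.Limits AlgebraicGeometry TopologicalSpace Topology

namespace GrothLib.SecComp6

theorem exists_isClopen_closure {X Y : Scheme.{u}} (f : X ⟶ Y) (s : Y ⟶ X) (hs : s ≫ f = 𝟙 Y)
    [LocallyOfFiniteType f] [QuasiCompact f] (y : Y) :
    ∃ V : Set ↑Y, V ⊆ closure {y} ∧ y ∈ V ∧ IsOpen (Subtype.val ⁻¹' V : Set ↑(closure ({y} : Set ↑Y))) ∧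
      IsClopen (Subtype.val ⁻¹' MoreMor.sectionComponents f s : Set ↑(f ⁻¹' V)) := by
  let Z : Closeds Y := ⟨closure {y}, isClosed_closure⟩
  let i := (Scheme.IdealSheafData.vanishingIdeal Z).subschemeι
  have hrange : Set.range i = closure {y} := RedSub.range_subschemeι_vanishingIdeal Z
  haveI : IsReduced (Scheme.IdealSheafData.vanishingIdeal Z).subscheme :=
    RedSub.isReduced_subscheme_vanishingIdeal Z
  haveI : IrreducibleSpace (Scheme.IdealSheafData.vanishingIdeal Z).subscheme := by
    have h : IsIrreducible (Set.range i) := hrange.symm ▸ isIrreducible_singleton.closure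
    exact (GeomComp6.isIrreducible_range_iff i i.isEmbedding).1 h
  haveI : AlgebraicGeometry.IsIntegral (Scheme.IdealSheafData.vanishingIdeal Z).subscheme :=
    isIntegral_of_irreducibleSpace_of_isReduced _
  let f' := pullback.snd f i
  let g' := pullback.fst f i
  haveI : LocallyOfFiniteType f' := MorphismProperty.pullback_snd f _ inferInstance
  haveI : QuasiCompact f' := MorphismProperty.pullback_snd f _ inferInstance
  let s' : (Scheme.IdealSheafData.vanishingIdeal Z).subscheme ⟶ pullback f i :=
    pullback.lift (i ≫ s) (𝟙 _) (by rw [Category.assoc, hs, Category.comp_id, Category.id_comp])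
  obtain ⟨V', hV', hclop⟩ := exists_open_isClopen f' s' (pullback.lift_snd _ _ _)
  have hsec := sectionComponents_baseChange f s hs f' g' i (IsPullback.of_hasPullback f i) s'
    (pullback.lift_snd _ _ _) (pullback.lift_fst _ _ _)
  have hgen : i (genericPoint (Scheme.IdealSheafData.vanishingIdeal Z).subscheme) = y := by
    refine ((genericPoint_spec (Scheme.IdealSheafData.vanishingIdeal Z).subscheme).image i.continuous).eq ?_
    rw [Set.image_univ, hrange, closure_closure]
    exact isGenericPoint_closure
  refine ⟨i '' V', hrange ▸ Set.image_subset_range _ _, ⟨_, hV', hgen⟩, ?_, ?_⟩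
  · obtain ⟨O, hO, hOV⟩ := i.isEmbedding.isInducing.isOpen_iff.1 V'.2
    refine ⟨O, hO, ?_⟩
    ext ⟨z, hz⟩
    obtain ⟨w, rfl⟩ := hrange.ge hz
    exact ⟨fun h => ⟨w, hOV.le h, rfl⟩, fun ⟨w', hw', hww⟩ => hOV.ge (i.isEmbedding.injective hww ▸ hw')⟩
  · let Φ : (f' ⁻¹ᵁ V' : (pullback f i).Opens) → ↑(f ⁻¹' (i '' (V' : Set _))) := fun z =>
      ⟨g' z.1, f' z.1, z.2, by rw [← Scheme.Hom.comp_apply, ← pullback.condition]; rfl⟩
    have hg : IsClosedImmersion g' := inferInstance
    have hΦ : IsQuotientMap Φ := by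
      have hemb : IsEmbedding Φ :=
        (IsEmbedding.subtypeVal.of_comp_iff (f := Φ)).1 (g'.isEmbedding.comp IsEmbedding.subtypeVal)
      have hsurj : Function.Surjective Φ := by
        rintro ⟨x, v, hv, hvx⟩
        obtain ⟨z, hz⟩ := (Scheme.Pullback.range_fst (f := f) (g := i)).ge
          (show x ∈ f ⁻¹' Set.range i from ⟨v, hvx⟩)
        have hzv : f' z = v := i.isEmbedding.injective (by
          rw [← Scheme.Hom.comp_apply, ← pullback.condition]
          show f (g' z) = i v
          rw [show g' z = x from hz, hvx])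
        exact ⟨⟨z, show f' z ∈ V' from hzv ▸ hv⟩, Subtype.ext hz⟩
      exact (hemb.toHomeomorphOfSurjective hsurj).isQuotientMap
    rw [← hΦ.isClopen_preimage]
    refine (?_ : (Φ ⁻¹' (Subtype.val ⁻¹' MoreMor.sectionComponents f s)) = _) ▸ hclop
    rw [hsec]
    rfl

end GrothLib.SecComp6
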