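import Mathlib
import Groth.Prelude.Def_MoreMor
import Groth.Agent.Lib.HTop.Val

/-!
# Idempotents of the generic fibre extend when the special fibre is reduced
-/

set_option autoImplicit false
set_option linter.style.haveILetI false

universe u

open CategoryTheory CategoryTheory.Limits AlgebraicGeometry TensorProduct

namespace GrothLib.SecComp6

/-- An idempotent of `B[1/π]` lies in `B` when `π` is regular and `B/πB` is reduced. -/
theorem exists_idempotent_lift {B : Type u} [CommRing B] {p : B} (hp : ∀ b, p * b = 0 → b = 0)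
    (hred : IsReduced (B ⧸ Ideal.span {p})) (e : Localization.Away p) (he : IsIdempotentElem e) :
    ∃ b : B, IsIdempotentElem b ∧ algebraMap B _ b = e := by
  classical
  let ι := algebraMap B (Localization.Away p)
  have hinj : Function.Injective ι := by
    rw [injective_iff_map_eq_zero]
    intro b hb
    obtain ⟨⟨_, n, rfl⟩, hn⟩ := (IsLocalization.map_eq_zero_iff (Submonoid.powers p) _ b).1 hb
    change p ^ n * b = 0 at hn
    induction n with
    | zero => simpa using hn
    | succ n ih => exact ih (hp _ (by rw [← mul_assoc, ← pow_succ']; exact hn))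
  have hex : ∃ n, ∃ b, ι b = e * ι p ^ n := by
    obtain ⟨⟨b, _, n, rfl⟩, h⟩ := IsLocalization.surj (Submonoid.powers p) e
    exact ⟨n, b, by rw [← map_pow]; exact h.symm⟩
  obtain ⟨b, hb⟩ := Nat.find_spec hex
  have hsq : b * b = p ^ Nat.find hex * b := hinj (by
    rw [map_mul, map_mul, map_pow, hb]
    linear_combination (ι p ^ Nat.find hex * ι p ^ Nat.find hex) * he.eq)
  have h0 : Nat.find hex = 0 := by
    by_contra hne
    obtain ⟨m, hm⟩ := Nat.exists_eq_succ_of_ne_zero hne
    have hmem : b ∈ Ideal.span {p} := by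
      rw [← Ideal.Quotient.eq_zero_iff_mem]
      refine IsReduced.eq_zero _ ⟨2, ?_⟩
      rw [pow_two, ← map_mul, hsq, hm, pow_succ', mul_assoc, Ideal.Quotient.eq_zero_iff_mem]
      exact Ideal.mul_mem_right _ _ (Ideal.mem_span_singleton_self p)
    obtain ⟨c, rfl⟩ := Ideal.mem_span_singleton.1 hmem
    refine Nat.find_min hex (hm ▸ m.lt_succ_self) ⟨c, ?_⟩
    have hu : IsUnit (ι p) := IsLocalization.Away.algebraMap_isUnit p
    refine hu.mul_left_cancel ?_
    rw [← map_mul, hb, hm, pow_succ']
    ring
  rw [h0, pow_zero, one_mul] at hsq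
  rw [h0, pow_zero, mul_one] at hb
  exact ⟨b, hsq, hb⟩

/-- Complementary open sets of the generic fibre of an affine scheme have disjoint closures. -/
theorem disjoint_closure_spec {B : Type u} [CommRing B] {p : B} (hp : ∀ b, p * b = 0 → b = 0)
    (hred : IsReduced (B ⧸ Ideal.span {p})) {C R : Set (PrimeSpectrum B)} (hC : IsOpen C) (hR : IsOpen R)
    (hdisj : Disjoint C R) (hunion : C ∪ R = (PrimeSpectrum.basicOpen p : Set (PrimeSpectrum B))) :
    Disjoint (closure C) (closure R) := by
  let c := PrimeSpectrum.comap (algebraMap B (Localization.Away p))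
  have hrange := PrimeSpectrum.localization_away_comap_range (Localization.Away p) p
  have hclop : IsClopen (c ⁻¹' C) := by
    refine ⟨?_, hC.preimage (PrimeSpectrum.continuous_comap _)⟩
    rw [← isOpen_compl_iff]
    have : (c ⁻¹' C)ᶜ = c ⁻¹' R := by
      ext r
      have hr : c r ∈ C ∪ R := hunion.ge (hrange.le ⟨r, rfl⟩)
      exact ⟨fun h => hr.resolve_left h, fun h h' => Set.disjoint_left.1 hdisj h' h⟩
    rw [this]
    exact hR.preimage (PrimeSpectrum.continuous_comap _)
  obtain ⟨e, he, hCe⟩ := PrimeSpectrum.exists_idempotent_basicOpen_eq_of_isClopen hclop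
  obtain ⟨b, hb, rfl⟩ := exists_idempotent_lift hp hred e he
  have hmem : ∀ r, c r ∈ C ↔ c r ∈ PrimeSpectrum.basicOpen b := fun r => Set.ext_iff.1 hCe r
  have hCb : closure C ⊆ (PrimeSpectrum.basicOpen b : Set (PrimeSpectrum B)) := by
    refine closure_minimal (fun q hq => ?_) (PrimeSpectrum.isClopen_iff_mul_add.2
      ⟨b, 1 - b, by rw [mul_sub, mul_one, hb.eq, sub_self], by ring, rfl⟩).1
    obtain ⟨r, rfl⟩ := hrange.ge (hunion.le (Or.inl hq))
    exact (hmem r).1 hq
  have hRb : closure R ⊆ (PrimeSpectrum.basicOpen b : Set (PrimeSpectrum B))ᶜ := by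
    refine closure_minimal (fun q hq => ?_) (PrimeSpectrum.basicOpen b).2.isClosed_compl
    obtain ⟨r, rfl⟩ := hrange.ge (hunion.le (Or.inr hq))
    exact fun h => Set.disjoint_left.1 hdisj ((hmem r).2 h) hq
  exact Set.disjoint_left.2 fun q h h' => hRb h' (hCb h)

variable {D : Type u} [CommRing D] [IsDomain D] [IsDiscreteValuationRing D] {X : Scheme.{u}}

theorem eq_gen_iff (ϖ : D) (hϖ : Irreducible ϖ) (q : Spec (CommRingCat.of D)) :
    q = HTop.gen (CommRingCat.of D) ↔ ϖ ∉ q.asIdeal := by
  constructor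
  · rintro rfl
    exact fun h => hϖ.ne_zero h
  · intro hq
    refine PrimeSpectrum.ext ?_
    show q.asIdeal = ⊥
    by_contra hne
    have hmax : q.asIdeal.IsMaximal := q.2.isMaximal hne
    exact hq (IsLocalRing.eq_maximalIdeal hmax ▸ (IsLocalRing.mem_maximalIdeal ϖ).2 hϖ.not_isUnit)

/-- Over a discrete valuation ring, with a reduced special fibre, complementary open sets of the
generic fibre have disjoint closures. -/
theorem disjoint_closure_dvr (g : X ⟶ Spec (CommRingCat.of D)) [Flat g] (ϖ : D) (hϖ : Irreducible ϖ)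
    (hred : IsReduced (pullback g (Spec.map (CommRingCat.ofHom (Ideal.Quotient.mk (Ideal.span {ϖ}))))))
    {C R : Set X} (hC : IsOpen C) (hR : IsOpen R) (hdisj : Disjoint C R)
    (hunion : C ∪ R = g ⁻¹' {HTop.gen (CommRingCat.of D)}) :
    Disjoint (closure C) (closure R) := by
  rw [Set.disjoint_left]
  intro x hxC hxR
  obtain ⟨_, ⟨(W : X.Opens), hW, rfl⟩, hxW, -⟩ := X.isBasis_affineOpens.exists_subset_of_mem_open
    (Set.mem_univ x) isOpen_univ
  obtain ⟨φ, hφ⟩ := Spec.map_surjective (hW.fromSpec ≫ g)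
  letI : Algebra D Γ(X, W) := φ.hom.toAlgebra
  haveI : Flat (Spec.map φ) := by rw [hφ]; infer_instance
  haveI : Module.Flat D Γ(X, W) := RingHom.flat_algebraMap_iff.1
    ((HasRingHomProperty.Spec_iff (P := @Flat)).1 ‹Flat (Spec.map φ)›)
  let p := algebraMap D Γ(X, W) ϖ
  have hp : ∀ b, p * b = 0 → b = 0 := fun b hb => by
    have hreg : IsSMulRegular D ϖ := fun u v h => mul_left_cancel₀ hϖ.ne_zero h
    have := Module.Flat.lTensor_preserves_injective_linearMap (M := Γ(X, W))
      (LinearMap.lsmul D D ϖ) hreg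
    have h2 : TensorProduct.rid D Γ(X, W) ((LinearMap.lsmul D D ϖ).lTensor Γ(X, W) (b ⊗ₜ 1)) = 0 := by
      rw [LinearMap.lTensor_tmul, TensorProduct.rid_tmul]
      simpa [Algebra.smul_def] using hb
    rw [LinearEquiv.map_eq_zero_iff] at h2
    have h3 := this (h2.trans (map_zero _).symm)
    simpa using congr(TensorProduct.rid D Γ(X, W) $h3)
  let t := Spec.map (CommRingCat.ofHom (Ideal.Quotient.mk (Ideal.span {ϖ})))
  have hredW : IsReduced (pullback (Spec.map φ) t) := by
    let k : pullback (Spec.map φ) t ⟶ pullback g t :=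
      pullback.lift (pullback.fst (Spec.map φ) t ≫ hW.fromSpec) (pullback.snd (Spec.map φ) t)
        (by rw [Category.assoc, ← hφ, pullback.condition])
    have sq : IsPullback (pullback.fst (Spec.map φ) t) k hW.fromSpec (pullback.fst g t) := by
      refine IsPullback.of_bot ?_ (pullback.lift_fst _ _ _).symm (IsPullback.of_hasPullback g t)
      rw [pullback.lift_snd, ← hφ]
      exact IsPullback.of_hasPullback _ _
    haveI : IsOpenImmersion k := MorphismProperty.of_isPullback sq (inferInstance : IsOpenImmersion hW.fromSpec)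
    exact isReduced_of_isOpenImmersion k
  have hq : _root_.IsReduced (Γ(X, W) ⧸ Ideal.span {p}) := by
    haveI h1 : IsReduced (Spec (CommRingCat.of (Γ(X, W) ⊗[D] (D ⧸ Ideal.span {ϖ})))) :=
      haveI := hredW
      isReduced_of_isOpenImmersion (pullbackSpecIso D Γ(X, W) (D ⧸ Ideal.span {ϖ})).inv
    haveI h2 : _root_.IsReduced (Γ(X, W) ⊗[D] (D ⧸ Ideal.span {ϖ})) := affine_isReduced_iff _ |>.1 h1
    let e := Algebra.TensorProduct.quotIdealMapEquivTensorQuot Γ(X, W) (Ideal.span {ϖ})
    rw [show Ideal.span {p} = (Ideal.span {ϖ}).map (algebraMap D Γ(X, W)) by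
      rw [Ideal.map_span, Set.image_singleton]]
    exact isReduced_of_injective e e.injective
  have hgen : ∀ q, g (hW.fromSpec q) = HTop.gen (CommRingCat.of D) ↔ q ∈ PrimeSpectrum.basicOpen p := by
    intro q
    rw [← Scheme.Hom.comp_apply, ← hφ, eq_gen_iff ϖ hϖ]
    exact Iff.rfl
  have hdis := disjoint_closure_spec hp hq (hC.preimage hW.fromSpec.continuous)
    (hR.preimage hW.fromSpec.continuous) (hdisj.preimage _)
      ((congrArg (⇑hW.fromSpec ⁻¹' ·) hunion).trans (Set.ext fun q => hgen q))
  obtain ⟨q, rfl⟩ := hW.range_fromSpec.ge hxW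
  have e := fun T : Set X => hW.fromSpec.isOpenEmbedding.isOpenMap.preimage_closure_eq_closure_preimage
    hW.fromSpec.continuous T
  exact Set.disjoint_left.1 hdis ((e C).le hxC) ((e R).le hxR)

/-- Over a discrete valuation ring with reduced special fibre, generizations of the component through
a section stay in the component. -/
theorem generization_mem_sectionComponents_dvr (g : X ⟶ Spec (CommRingCat.of D)) [Flat g]
    [LocallyOfFiniteType g] [QuasiCompact g]
    (ϖ : D) (hϖ : Irreducible ϖ)
    (hred : IsReduced (pullback g (Spec.map (CommRingCat.ofHom (Ideal.Quotient.mk (Ideal.span {ϖ}))))))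
    (σ : Spec (CommRingCat.of D) ⟶ X) (hσ : σ ≫ g = 𝟙 _) {x₁ x₁' : X} (hsp : x₁' ⤳ x₁)
    (hgen : g x₁' = HTop.gen (CommRingCat.of D)) (hx₁ : x₁ ∈ MoreMor.sectionComponents g σ) :
    x₁' ∈ MoreMor.sectionComponents g σ := by
  classical
  let η := HTop.gen (CommRingCat.of D)
  have hop : IsOpen ({η} : Set (Spec (CommRingCat.of D))) := by
    have heq : ({η} : Set (Spec (CommRingCat.of D))) = (PrimeSpectrum.basicOpen ϖ : Set (PrimeSpectrum D)) :=
      Set.ext fun q => eq_gen_iff ϖ hϖ q
    exact heq ▸ (PrimeSpectrum.basicOpen ϖ).2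
  haveI : LocallyOfFiniteType (g.fiberToSpecResidueField η) := MorphismProperty.pullback_snd g _ inferInstance
  haveI : IsLocallyNoetherian (g.fiber η) := LocallyOfFiniteType.isLocallyNoetherian (g.fiberToSpecResidueField η)
  haveI : CompactSpace (g.fiber η) := QuasiCompact.compactSpace_of_compactSpace (g.fiberToSpecResidueField η)
  haveI : IsNoetherian (g.fiber η) := {}
  have hση : g (σ η) = η := by rw [← Scheme.Hom.comp_apply, hσ]; rfl
  obtain ⟨a, ha⟩ := (g.range_fiberι η).ge hση
  have hopen : IsOpenMap (g.fiberι η) := by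
    refine ((g.fiberι η).isEmbedding.toIsInducing.isOpenMap ?_)
    rw [g.range_fiberι η]
    exact hop.preimage g.continuous
  let C₀ : Set (g.fiber η) := connectedComponent a
  have hC₀open : IsOpen C₀ := by
    rw [← isClosed_compl_iff, show C₀ᶜ = ⋃ Z ∈ {Z ∈ irreducibleComponents (g.fiber η) | ¬ Z ⊆ C₀}, Z from ?_]
    · refine Set.Finite.isClosed_biUnion ?_ fun Z hZ => isClosed_of_mem_irreducibleComponents Z hZ.1
      exact TopologicalSpace.NoetherianSpace.finite_irreducibleComponents.subset fun Z hZ => hZ.1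
    · refine Set.Subset.antisymm (fun z hz => ?_) (Set.iUnion₂_subset fun Z hZ z hz hzC => hZ.2 ?_)
      · exact Set.mem_biUnion (x := irreducibleComponent z)
          ⟨irreducibleComponent_mem_irreducibleComponents z, fun hsub => hz (hsub mem_irreducibleComponent)⟩
          mem_irreducibleComponent
      · rw [show C₀ = connectedComponent z from (connectedComponent_eq hzC).trans rfl]
        exact hZ.1.1.isConnected.subset_connectedComponent hz
  let C : Set X := g.fiberι η '' C₀
  let R : Set X := g.fiberι η '' C₀ᶜ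
  have hdisj : Disjoint C R := Set.disjoint_image_of_injective (g.fiberι η).isEmbedding.injective disjoint_compl_right
  have hunion : C ∪ R = g ⁻¹' {η} := by
    rw [← Set.image_union, Set.union_compl_self, Set.image_univ, g.range_fiberι η]
  have hd := disjoint_closure_dvr g ϖ hϖ hred (hopen _ hC₀open) (hopen _ isClosed_connectedComponent.isOpen_compl)
    hdisj hunion
  have hcover : ∀ z, z ∈ closure C ∪ closure R := fun z => by
    have hz : η ⤳ g z := (PrimeSpectrum.le_iff_specializes (HTop.gen (CommRingCat.of D)) (g z)).1 bot_le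
    obtain ⟨z', hz', hgz'⟩ := Flat.generalizingMap g hz
    rcases hunion.ge (show z' ∈ g ⁻¹' {η} from hgz') with h | h
    · exact Or.inl (hz'.mem_closed isClosed_closure (subset_closure h))
    · exact Or.inr (hz'.mem_closed isClosed_closure (subset_closure h))
  have hσc : σ (g x₁) ∈ closure C :=
    (((PrimeSpectrum.le_iff_specializes (HTop.gen (CommRingCat.of D)) (g x₁)).1 bot_le).map σ.continuous).mem_closed
      isClosed_closure (subset_closure ⟨a, mem_connectedComponent, ha⟩)
  have hx₁C : x₁ ∈ closure C := by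
    rcases hcover x₁ with h | h
    · exact h
    have hmem : σ (g x₁) ∈ g ⁻¹' {g x₁} := by
      show g (σ (g x₁)) = g x₁
      rw [← Scheme.Hom.comp_apply, hσ]; rfl
    obtain ⟨y, -, hyC, hyR⟩ := isPreconnected_closed_iff.1 isPreconnected_connectedComponentIn (closure C) (closure R)
      isClosed_closure isClosed_closure (fun y _ => hcover y) ⟨_, mem_connectedComponentIn hmem, hσc⟩
      ⟨x₁, hx₁, h⟩
    exact absurd hyR (Set.disjoint_left.1 hd hyC)
  have hx₁' : x₁' ∈ C := by
    rcases hunion.ge (show x₁' ∈ g ⁻¹' {η} from hgen) with h | h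
    · exact h
    · exact absurd (hsp.mem_closed isClosed_closure (subset_closure h)) (Set.disjoint_left.1 hd hx₁C)
  show x₁' ∈ connectedComponentIn (g ⁻¹' {g x₁'}) (σ (g x₁'))
  rw [hgen]
  exact (isPreconnected_connectedComponent.image _ (g.fiberι η).continuous.continuousOn).subset_connectedComponentIn
    ⟨a, mem_connectedComponent, ha⟩ (by rintro _ ⟨z, -, rfl⟩; exact (g.range_fiberι η).le ⟨z, rfl⟩) hx₁'

end GrothLib.SecComp6
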