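import Groth.Agent.Lib.SecComp6.BaseChange
import Groth.Agent.Lib.GenFree.Generic
import Groth.Agent.Lib.GeomComp6.Global
import Groth.Agent.Lib.RedSub.Basic

/-!
# The component through a section near a generic point
-/

set_option autoImplicit false
set_option linter.style.haveILetI false

universe u

open CategoryTheory CategoryTheory.Limits AlgebraicGeometry TopologicalSpace Topology

namespace GrothLib.SecComp6

theorem exists_dvd_comap_eq_bot {A B : Type u} [CommRing A] [IsDomain A] [CommRing B] [Algebra A B]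
    [Algebra.FiniteType A B] (g : A) (hg : g ≠ 0) :
    ∃ f : A, g ∣ f ∧ f ≠ 0 ∧ ∀ q : Ideal B, q.IsPrime → algebraMap A B f ∉ q →
      ∃ q₀ : Ideal B, q₀.IsPrime ∧ q₀ ≤ q ∧ q₀.comap (algebraMap A B) = ⊥ := by
  obtain ⟨f, hd, hf, ι, φ, h1, h2⟩ := GenFree.gf_of_finiteType (R := A) B B g hg
  refine ⟨f, hd, hf, fun q hq hfq => ?_⟩
  obtain ⟨q₀, hq₀, hle⟩ := Ideal.exists_minimalPrimes_le (I := (⊥ : Ideal B)) (J := q) bot_le
  haveI := hq₀.isPrime
  refine ⟨q₀, inferInstance, hle, (Submodule.eq_bot_iff _).2 fun a ha => by_contra fun ha0 => ?_⟩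
  have hx : ∃ y ∉ q₀, ∃ n : ℕ, y * algebraMap A B a ^ n = 0 := by
    by_contra hc
    have hdis : Disjoint ((⊥ : Ideal B) : Set B) (q₀.primeCompl ⊔ Submonoid.powers (algebraMap A B a) : Submonoid B) := by
      rw [Set.disjoint_left]
      intro z hz hzS
      obtain ⟨y, hy, _, ⟨n, rfl⟩, rfl⟩ := Submonoid.mem_sup.1 hzS
      exact hc ⟨y, hy, n, hz⟩
    obtain ⟨P, hP, -, hPS⟩ := Ideal.exists_le_prime_disjoint _ _ hdis
    have hPq : P ≤ q₀ := fun z hz => by_contra fun hzq =>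
      Set.disjoint_left.1 hPS hz (Submonoid.mem_sup_left hzq)
    exact Set.disjoint_left.1 hPS (hq₀.2 ⟨hP, bot_le⟩ hPq ha)
      (Submonoid.mem_sup_right (Submonoid.mem_powers _))
  obtain ⟨y, hy, n, hn⟩ := hx
  obtain ⟨e, l, hl⟩ := h1 y
  obtain ⟨d, hd'⟩ := h2 (a ^ n • l) (by
    rw [map_smul, hl, smul_comm, Algebra.smul_def (a ^ n), map_pow, mul_comm, hn, smul_zero])
  rw [smul_eq_zero] at hd'
  have hl0 : l = 0 :=
    (smul_eq_zero.1 (hd'.resolve_left (pow_ne_zero d hf))).resolve_left (pow_ne_zero n ha0)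
  rw [hl0, map_zero, Algebra.smul_def, map_pow] at hl
  refine hy ((hq₀.isPrime.mem_or_mem (show algebraMap A B f ^ e * y ∈ q₀ by
    rw [← hl]; exact zero_mem _)).resolve_left fun h => ?_)
  exact hfq (hle (hq₀.isPrime.mem_of_pow_mem _ h))

variable {X Y : Scheme.{u}}

/-- Near the generic point of the base every point specializes from the generic fibre. -/
theorem exists_open_specializes (f : X ⟶ Y) [IsIntegral Y] [LocallyOfFiniteType f] [QuasiCompact f] :
    ∃ V : Y.Opens, genericPoint Y ∈ V ∧ ∀ x : X, f x ∈ V → ∃ x₀ : X, f x₀ = genericPoint Y ∧ x₀ ⤳ x := by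
  classical
  obtain ⟨_, ⟨(U : Y.Opens), hU, rfl⟩, hη, -⟩ := Y.isBasis_affineOpens.exists_subset_of_mem_open
    (Set.mem_univ (genericPoint Y)) isOpen_univ
  haveI : Nonempty U := ⟨⟨_, hη⟩⟩
  obtain ⟨S, hSfin, hS⟩ := isCompact_and_isOpen_iff_finite_and_eq_biUnion_affineOpens.1
    ⟨QuasiCompact.isCompact_preimage (f := f) U U.2 hU.isCompact, (f ⁻¹ᵁ U).2⟩
  have hle : ∀ W ∈ S, (W : X.Opens) ≤ f ⁻¹ᵁ U := fun W hW z hz => hS.ge (Set.mem_biUnion hW hz)
  have key : ∀ W ∈ S, ∀ g : Γ(Y, U), g ≠ 0 → ∃ h : Γ(Y, U), g ∣ h ∧ h ≠ 0 ∧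
      ∀ x ∈ (W : X.Opens), f x ∈ Y.basicOpen h → ∃ x₀ : X, f x₀ = genericPoint Y ∧ x₀ ⤳ x := by
    intro W hW g hg
    letI := (f.appLE U W (hle W hW)).hom.toAlgebra
    haveI : Algebra.FiniteType Γ(Y, U) Γ(X, W) := f.finiteType_appLE hU W.2 (hle W hW)
    obtain ⟨h, hd, hh, hq⟩ := exists_dvd_comap_eq_bot (B := Γ(X, W)) g hg
    refine ⟨h, hd, hh, fun x hxW hfx => ?_⟩
    let q : Spec Γ(X, W) := W.2.primeIdealOf ⟨x, hxW⟩
    have hqx : W.2.fromSpec q = x := W.2.fromSpec_primeIdealOf _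
    have hmap : ∀ r : Spec Γ(X, W), f (W.2.fromSpec r) = hU.fromSpec (Spec.map (f.appLE U W (hle W hW)) r) :=
      fun r => by
        rw [← Scheme.Hom.comp_apply, ← Scheme.Hom.comp_apply, IsAffineOpen.SpecMap_appLE_fromSpec f hU W.2 (hle W hW)]
    have hnot : algebraMap Γ(Y, U) Γ(X, W) h ∉ q.asIdeal := by
      have h1 : Spec.map (f.appLE U W (hle W hW)) q ∈ hU.fromSpec ⁻¹ᵁ Y.basicOpen h := by
        show hU.fromSpec _ ∈ Y.basicOpen h
        rw [← hmap, hqx]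
        exact hfx
      rw [hU.fromSpec_preimage_basicOpen] at h1
      exact h1
    obtain ⟨q₀, hq₀, hle', hcomap⟩ := hq q.asIdeal q.2 hnot
    refine ⟨W.2.fromSpec ⟨q₀, hq₀⟩, ?_, ?_⟩
    · rw [hmap, show Spec.map (f.appLE U W (hle W hW)) ⟨q₀, hq₀⟩ = genericPoint (Spec Γ(Y, U)) from
        (PrimeSpectrum.ext hcomap).trans (GeomComp6.genericPoint_Spec Γ(Y, U)).symm]
      refine ((genericPoint_spec (Spec Γ(Y, U))).image hU.fromSpec.continuous).eq ?_
      rw [Set.image_univ, hU.range_fromSpec,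
        show closure (U : Set Y) = Set.univ from dense_iff_closure_eq.mp (U.2.dense ⟨_, hη⟩)]
      exact genericPoint_spec Y
    · rw [← hqx]
      exact ((PrimeSpectrum.le_iff_specializes ⟨q₀, hq₀⟩ q).1 hle').map W.2.fromSpec.continuous
  obtain ⟨h, hh, hall⟩ : ∃ h : Γ(Y, U), h ≠ 0 ∧ ∀ W ∈ S, ∀ x ∈ (W : X.Opens), f x ∈ Y.basicOpen h →
      ∃ x₀ : X, f x₀ = genericPoint Y ∧ x₀ ⤳ x := by
    clear hS hle
    induction S, hSfin using Set.Finite.induction_on_subset with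
    | empty => exact ⟨1, one_ne_zero, fun W hW => absurd hW (Set.notMem_empty _)⟩
    | @insert W s hW hs hWs ih =>
      obtain ⟨g, hg, hgall⟩ := ih fun W' hW' => key W' (Or.inr hW')
      obtain ⟨h, ⟨c, rfl⟩, hh, hWall⟩ := key W (Or.inl rfl) g hg
      refine ⟨g * c, hh, fun W' hW' x hx hfx => ?_⟩
      rcases hW' with rfl | hW'
      · exact hWall x hx hfx
      · refine hgall W' hW' x hx ?_
        rw [Scheme.basicOpen_mul] at hfx
        exact hfx.1
  refine ⟨Y.basicOpen h, ?_, fun x hx => ?_⟩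
  · have hne : (Y.basicOpen h : Set Y).Nonempty := by
      rw [Set.nonempty_iff_ne_empty]
      intro he
      exact hh ((basicOpen_eq_bot_iff h).1 (TopologicalSpace.Opens.ext he))
    exact (genericPoint_spec Y).mem_open_set_iff (Y.basicOpen h).2 |>.2 (by simpa using hne)
  · obtain ⟨W, hW, hxW⟩ := Set.mem_iUnion₂.1 (hS.le (show x ∈ (f ⁻¹ᵁ U : Set X) from Y.basicOpen_le h hx))
    exact hall W hW x hxW hx

/-- A closed set missing the generic fibre misses the fibres near the generic point. -/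
theorem exists_open_avoid (f : X ⟶ Y) [IsIntegral Y] [LocallyOfFiniteType f] [QuasiCompact f] (A : Closeds X)
    (h : ∀ x ∈ A, f x ≠ genericPoint Y) :
    ∃ V : Y.Opens, genericPoint Y ∈ V ∧ ∀ x ∈ A, f x ∉ V := by
  let ι := (Scheme.IdealSheafData.vanishingIdeal A).subschemeι
  have hrange : Set.range ι = A := RedSub.range_subschemeι_vanishingIdeal A
  obtain ⟨V, hV, hspec⟩ := exists_open_specializes (ι ≫ f)
  refine ⟨V, hV, fun x hx hfx => ?_⟩
  obtain ⟨a, rfl⟩ := hrange.ge hx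
  obtain ⟨a₀, ha₀, -⟩ := hspec a hfx
  exact h (ι a₀) (hrange.le ⟨a₀, rfl⟩) ha₀

/-- Near the generic point the component through the section is cut out by a clopen set. -/
theorem exists_open_isClopen (f : X ⟶ Y) (s : Y ⟶ X) (hs : s ≫ f = 𝟙 Y) [IsIntegral Y]
    [LocallyOfFiniteType f] [QuasiCompact f] :
    ∃ V : Y.Opens, genericPoint Y ∈ V ∧
      IsClopen (Subtype.val ⁻¹' MoreMor.sectionComponents f s : Set (f ⁻¹ᵁ V : X.Opens)) := by
  classical
  let η := genericPoint Y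
  obtain ⟨a, ha⟩ : ∃ a, f.fiberι η a = s η :=
    (f.range_fiberι η).ge (show f (s η) = η by rw [← Scheme.Hom.comp_apply, hs]; rfl)
  haveI : LocallyOfFiniteType (f.fiberToSpecResidueField η) := MorphismProperty.pullback_snd f _ inferInstance
  haveI : IsLocallyNoetherian (f.fiber η) := LocallyOfFiniteType.isLocallyNoetherian (f.fiberToSpecResidueField η)
  haveI : CompactSpace (f.fiber η) := QuasiCompact.compactSpace_of_compactSpace (f.fiberToSpecResidueField η)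
  haveI : IsNoetherian (f.fiber η) := {}
  let C : Set (f.fiber η) := connectedComponent a
  let R : Set (f.fiber η) := ⋃ Z ∈ {Z ∈ irreducibleComponents (f.fiber η) | ¬ Z ⊆ C}, Z
  have hRC : R = Cᶜ := by
    refine Set.Subset.antisymm (Set.iUnion₂_subset fun Z hZ z hz hzC => hZ.2 ?_) fun z hz => ?_
    · rw [show C = connectedComponent z from (connectedComponent_eq hzC).trans rfl]
      exact hZ.1.1.isConnected.subset_connectedComponent hz
    · exact Set.mem_biUnion (x := irreducibleComponent z)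
        ⟨irreducibleComponent_mem_irreducibleComponents z, fun hsub => hz (hsub mem_irreducibleComponent)⟩
        mem_irreducibleComponent
  have hRc : IsClosed R := by
    refine Set.Finite.isClosed_biUnion ?_ fun Z hZ => isClosed_of_mem_irreducibleComponents Z hZ.1
    exact NoetherianSpace.finite_irreducibleComponents.subset fun Z hZ => hZ.1
  let CX : Closeds X := ⟨closure (f.fiberι η '' C), isClosed_closure⟩
  let RX : Closeds X := ⟨closure (f.fiberι η '' R), isClosed_closure⟩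
  have hclo : ∀ (T : Set (f.fiber η)), IsClosed T → ∀ z, f.fiberι η z ∈ closure (f.fiberι η '' T) → z ∈ T :=
    fun T hT z hz => by
      rw [← hT.closure_eq, (f.fiberι η).isEmbedding.isInducing.closure_eq_preimage_closure_image]
      exact hz
  obtain ⟨V₁, hV₁, hspec⟩ := exists_open_specializes f
  obtain ⟨V₂, hV₂, havoid⟩ := exists_open_avoid f (CX ⊓ RX) fun x hx hfx => by
    obtain ⟨z, rfl⟩ := (f.range_fiberι η).ge hfx
    have h1 : z ∈ C := hclo C isClosed_connectedComponent z hx.1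
    have h2 : z ∈ R := hclo R hRc z hx.2
    rw [hRC] at h2
    exact h2 h1
  let V₀ : Y.Opens := V₁ ⊓ V₂
  have hη₀ : η ∈ V₀ := ⟨hV₁, hV₂⟩
  haveI : Nonempty V₀ := ⟨⟨η, hη₀⟩⟩
  have hsplit : ∀ x : X, f x ∈ V₀ → (x ∉ RX ↔ x ∈ CX) := fun x hx => by
    refine ⟨fun hR => ?_, fun hC hR => havoid x ⟨hC, hR⟩ hx.2⟩
    obtain ⟨x₀, hx₀, hsp⟩ := hspec x hx.1
    obtain ⟨z, rfl⟩ := (f.range_fiberι η).ge hx₀
    by_cases hz : z ∈ C
    · exact hsp.mem_closed CX.2 (subset_closure ⟨z, hz, rfl⟩)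
    · exact absurd (hsp.mem_closed RX.2 (subset_closure ⟨z, hRC.ge hz, rfl⟩)) hR
  let g := f ∣_ V₀
  let D : (f ⁻¹ᵁ V₀ : Scheme.{u}).Opens := (f ⁻¹ᵁ V₀).ι ⁻¹ᵁ ⟨(RX : Set X)ᶜ, RX.2.isOpen_compl⟩
  have hD : (D : Set (f ⁻¹ᵁ V₀ : Scheme.{u})) = (f ⁻¹ᵁ V₀).ι ⁻¹' (CX : Set X) := by
    ext z
    exact hsplit _ z.2
  haveI : IsClosedImmersion D.ι := .of_isPreimmersion _ (by
    rw [Scheme.Opens.range_ι]
    exact hD.symm ▸ CX.2.preimage (f ⁻¹ᵁ V₀).ι.continuous)
  have hηV : (⟨η, hη₀⟩ : (V₀ : Scheme.{u})) = genericPoint (V₀ : Scheme.{u}) := by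
    refine V₀.ι.isOpenEmbedding.injective ?_
    refine (((genericPoint_spec (V₀ : Scheme.{u})).image V₀.ι.continuous).eq ?_).symm
    rw [Set.image_univ, Scheme.Opens.range_ι,
      show closure (V₀ : Set Y) = Set.univ from dense_iff_closure_eq.mp (V₀.2.dense ⟨_, hη₀⟩)]
    exact genericPoint_spec Y
  let η' : (V₀ : Scheme.{u}) := ⟨η, hη₀⟩
  obtain ⟨s₀, hs₀⟩ : ∃ s₀ : (V₀ : Scheme.{u}) ⟶ (f ⁻¹ᵁ V₀ : Scheme.{u}), s₀ ≫ (f ⁻¹ᵁ V₀).ι = V₀.ι ≫ s :=
    ⟨_, IsOpenImmersion.lift_fac _ _ (by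
      rw [Scheme.Opens.range_ι]
      rintro _ ⟨z, rfl⟩
      show f (s (V₀.ι z)) ∈ V₀
      rw [← Scheme.Hom.comp_apply s f, hs]
      exact z.2)⟩
  have hs₀g : s₀ ≫ g = 𝟙 _ := by
    rw [← cancel_mono V₀.ι, Category.assoc, morphismRestrict_ι, ← Category.assoc, hs₀, Category.assoc, hs,
      Category.comp_id, Category.id_comp]
  have hsD : ∀ z, s₀ z ∈ D := by
    haveI : IrreducibleSpace (V₀ : Scheme.{u}) := inferInstance
    have hcl : IsClopen (s₀ ⁻¹' (D : Set (f ⁻¹ᵁ V₀ : Scheme.{u}))) :=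
      IsClopen.preimage ⟨(show IsClosed (D : Set (f ⁻¹ᵁ V₀ : Scheme.{u})) from hD.symm ▸ CX.2.preimage (f ⁻¹ᵁ V₀).ι.continuous), D.2⟩ s₀.continuous
    have hne : η' ∈ s₀ ⁻¹' (D : Set (f ⁻¹ᵁ V₀ : Scheme.{u})) := by
      show s₀ η' ∈ (D : Set _)
      rw [hD]
      show (f ⁻¹ᵁ V₀).ι (s₀ η') ∈ CX
      rw [← Scheme.Hom.comp_apply, hs₀]
      exact subset_closure ⟨a, mem_connectedComponent, ha⟩
    exact fun z => (hcl.eq_univ ⟨_, hne⟩).ge (Set.mem_univ z)
  obtain ⟨σ, hσ⟩ : ∃ σ : (V₀ : Scheme.{u}) ⟶ (D : Scheme.{u}), σ ≫ D.ι = s₀ :=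
    ⟨_, IsOpenImmersion.lift_fac _ _ (by
      rw [Scheme.Opens.range_ι]; rintro _ ⟨z, rfl⟩; exact hsD z)⟩
  let gD := D.ι ≫ g
  have hσg : σ ≫ gD = 𝟙 _ := by rw [← hs₀g, ← hσ, Category.assoc]
  have hconnη : ConnectedSpace (gD.fiber η') := by
    let e : gD.fiber η' → X := fun z => (f ⁻¹ᵁ V₀).ι (D.ι (gD.fiberι η' z))
    have he : IsEmbedding e :=
      (f ⁻¹ᵁ V₀).ι.isEmbedding.comp (D.ι.isEmbedding.comp (gD.fiberι η').isEmbedding)
    have hre : Set.range e = f.fiberι η '' C := by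
      ext x
      constructor
      · rintro ⟨z, rfl⟩
        have hz : f (e z) = η := by
          show f ((f ⁻¹ᵁ V₀).ι (D.ι (gD.fiberι η' z))) = η
          rw [← Scheme.Hom.comp_apply, ← morphismRestrict_ι, Scheme.Hom.comp_apply]
          show V₀.ι (gD (gD.fiberι η' z)) = η
          rw [show gD (gD.fiberι η' z) = η' from (gD.range_fiberι η').le ⟨z, rfl⟩]
          rfl
        obtain ⟨w, hw⟩ := (f.range_fiberι η).ge hz
        refine ⟨w, hclo C isClosed_connectedComponent w ?_, hw⟩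
        rw [hw]
        exact hD.le (D.ι (gD.fiberι η' z) |> fun _ => (gD.fiberι η' z).2)
      · rintro ⟨w, hw, rfl⟩
        have hfw : f (f.fiberι η w) = η := (f.range_fiberι η).le ⟨w, rfl⟩
        let z₀ : (f ⁻¹ᵁ V₀ : Scheme.{u}) := ⟨f.fiberι η w, show f _ ∈ V₀ from hfw.symm ▸ hη₀⟩
        have hz₀ : z₀ ∈ D := hD.ge (subset_closure ⟨w, hw, rfl⟩ : z₀.1 ∈ (CX : Set X))
        have hg₀ : gD ⟨z₀, hz₀⟩ = η' := V₀.ι.isOpenEmbedding.injective (by
          show V₀.ι ((f ∣_ V₀) z₀) = η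
          rw [← Scheme.Hom.comp_apply, morphismRestrict_ι]
          exact hfw)
        obtain ⟨z, hz⟩ := (gD.range_fiberι η').ge hg₀
        exact ⟨z, by show (f ⁻¹ᵁ V₀).ι (D.ι (gD.fiberι η' z)) = _; rw [hz]; rfl⟩
    have hC : _root_.IsConnected (f.fiberι η '' C) :=
      isConnected_connectedComponent.image _ (f.fiberι η).continuous.continuousOn
    rw [← hre, ← Set.image_univ] at hC
    exact connectedSpace_iff_univ.2
      ⟨Set.image_nonempty.1 hC.nonempty, he.isInducing.isPreconnected_image.1 hC.isPreconnected⟩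
  have hcount : MoreMor.nGeomConnComp gD η' = 1 := by
    let σ' : Spec ((V₀ : Scheme.{u}).residueField η') ⟶ gD.fiber η' :=
      pullback.lift ((V₀ : Scheme.{u}).fromSpecResidueField η' ≫ σ) (𝟙 _)
        (by rw [Category.assoc, hσg, Category.comp_id, Category.id_comp])
    haveI := geometricallyConnected_id (Spec (CommRingCat.of (IsLocalRing.ResidueField ((V₀ : Scheme.{u}).presheaf.stalk η'))))
    haveI : GeometricallyConnected (gD.fiberToSpecResidueField η') :=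
      FBase7.geometricallyConnected_of_range (gD.fiberToSpecResidueField η') (𝟙 _) σ' (pullback.lift_snd _ _ _)
    exact GeomComp6.card_connectedComponents_eq_one_iff.mpr
      (GeometricallyConnected.geometrically_connectedSpace (f := gD.fiberToSpecResidueField η') _ _ _
        (IsPullback.of_hasPullback _ _))
  obtain ⟨W, hWne, hW⟩ := GeomComp6.exists_geomCount_constant gD
  have hgW : GeometricallyConnected (gD ∣_ W) := by
    refine (GeomComp6.geometricallyConnected_iff_count _).2 fun y => ?_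
    rw [show MoreMor.nGeomConnComp (gD ∣_ W) y = MoreMor.nGeomConnComp gD (W.ι y) from
      congrArg Prod.snd (GeomComp6.count_morphismRestrict gD W y),
      show MoreMor.nGeomConnComp gD (W.ι y) = MoreMor.nGeomConnComp gD η' from
        (congrArg Prod.snd (hW _ y.2)).trans (by rw [← hηV])]
    exact hcount
  refine ⟨V₀.ι ''ᵁ W, ⟨η', ?_, rfl⟩, ?_⟩
  · rw [show η' = genericPoint (V₀ : Scheme.{u}) from hηV]
    exact (genericPoint_spec (V₀ : Scheme.{u})).mem_open_set_iff W.2 |>.2 (by simpa using hWne)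
  have hfin : (Subtype.val ⁻¹' MoreMor.sectionComponents f s : Set (f ⁻¹ᵁ V₀.ι ''ᵁ W : X.Opens)) =
      Subtype.val ⁻¹' (CX : Set X) := by
    ext ⟨x, hx⟩
    obtain ⟨w, hwW, hwx⟩ := hx
    have hxV : f x ∈ V₀ := hwx ▸ w.2
    show x ∈ connectedComponentIn (f ⁻¹' {f x}) (s (f x)) ↔ x ∈ CX
    have hsC : ∀ z, f z ∈ V₀ → s (f z) ∈ CX := fun z hz => by
      have h1 : (s₀ ⟨f z, hz⟩) ∈ (D : Set _) := hsD _
      rw [hD] at h1
      have h2 : (f ⁻¹ᵁ V₀).ι (s₀ ⟨f z, hz⟩) ∈ CX := h1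
      rwa [← Scheme.Hom.comp_apply, hs₀] at h2
    let F : Set X := f ⁻¹' {f x}
    let e₂ : (gD ⁻¹ᵁ W : Scheme.{u}) ⟶ X := ((gD ⁻¹ᵁ W).ι ≫ D.ι) ≫ (f ⁻¹ᵁ V₀).ι
    let w' : (W : Scheme.{u}) := ⟨w, hwW⟩
    have he₂ : ∀ z, f (e₂ z) = V₀.ι (W.ι ((gD ∣_ W) z)) := fun z => by
      rw [← Scheme.Hom.comp_apply, ← Scheme.Hom.comp_apply, ← Scheme.Hom.comp_apply]
      refine congrArg (fun φ : (gD ⁻¹ᵁ W : Scheme.{u}) ⟶ Y => φ z) ?_
      simp only [e₂, gD, g, Category.assoc, morphismRestrict_ι, morphismRestrict_ι_assoc]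
    have himg : ⇑e₂ '' ((gD ∣_ W) ⁻¹' {w'}) = F ∩ (CX : Set X) := by
      ext z
      constructor
      · rintro ⟨z', hz', rfl⟩
        refine ⟨?_, hD.le (show ((gD ⁻¹ᵁ W).ι z' : D.toScheme).1 ∈ D from ((gD ⁻¹ᵁ W).ι z').2)⟩
        show f (e₂ z') = f x
        rw [he₂, show (gD ∣_ W) z' = w' from hz']
        exact hwx
      · rintro ⟨hz, hzC⟩
        have hzV : f z ∈ V₀ := (show f z = f x from hz).symm ▸ hxV
        let z₀ : (f ⁻¹ᵁ V₀ : Scheme.{u}) := ⟨z, hzV⟩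
        have hz₀ : z₀ ∈ D := hD.ge (show z₀.1 ∈ (CX : Set X) from hzC)
        have hgz : gD ⟨z₀, hz₀⟩ = w := V₀.ι.isOpenEmbedding.injective (by
          refine Eq.trans ?_ (hwx.trans rfl).symm
          show V₀.ι ((f ∣_ V₀) z₀) = f x
          rw [← Scheme.Hom.comp_apply, morphismRestrict_ι]
          exact hz)
        refine ⟨⟨⟨z₀, hz₀⟩, show gD _ ∈ W from hgz ▸ hwW⟩, ?_, rfl⟩
        refine W.ι.isOpenEmbedding.injective ?_
        rw [← Scheme.Hom.comp_apply, morphismRestrict_ι]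
        exact hgz
    have hpre : IsPreconnected (F ∩ (CX : Set X)) := by
      rw [← himg]
      exact ((gD ∣_ W).isConnected_preimage_singleton w').isPreconnected.image _ e₂.continuous.continuousOn
    have hsx : s (f x) ∈ F := by
      show f (s (f x)) = f x
      rw [← Scheme.Hom.comp_apply, hs]; rfl
    refine ⟨fun hxc => ?_, fun hxC => hpre.subset_connectedComponentIn ⟨hsx, hsC x hxV⟩
      Set.inter_subset_left ⟨rfl, hxC⟩⟩
    by_contra hxC
    have hsubF : connectedComponentIn F (s (f x)) ⊆ F := connectedComponentIn_subset _ _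
    obtain ⟨y, hy, hyC, hyR⟩ := isPreconnected_closed_iff.1 (isPreconnected_connectedComponentIn
      (F := F) (x := s (f x))) (CX : Set X) (RX : Set X) CX.2 RX.2 (fun y hy => by
        by_cases hyR : y ∈ RX
        · exact Or.inr hyR
        · exact Or.inl ((hsplit y ((show f y = f x from hsubF hy).symm ▸ hxV)).1 hyR))
      ⟨_, mem_connectedComponentIn hsx, hsC x hxV⟩
      ⟨x, hxc, by_contra fun hR => hxC ((hsplit x hxV).1 hR)⟩
    exact (hsplit y ((show f y = f x from hsubF hy).symm ▸ hxV)).2 hyC hyR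
  rw [hfin]
  refine ⟨CX.2.preimage continuous_subtype_val, ?_⟩
  show IsOpen (Subtype.val ⁻¹' (CX : Set X) : Set (f ⁻¹ᵁ V₀.ι ''ᵁ W : X.Opens))
  have : (Subtype.val ⁻¹' (CX : Set X) : Set (f ⁻¹ᵁ V₀.ι ''ᵁ W : X.Opens)) = Subtype.val ⁻¹' (RX : Set X)ᶜ := by
    ext ⟨x, ⟨w, -, hwx⟩⟩
    exact (hsplit x (hwx ▸ w.2)).symm
  exact this ▸ RX.2.isOpen_compl.preimage continuous_subtype_val

end GrothLib.SecComp6
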