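import Groth.Agent.Lib.SecComp6.Constr
import Groth.Agent.Lib.SecComp6.Dvr
import Groth.Agent.Lib.SubtrLim.Submersive
import Groth.Agent.Lib.NoethTop.Spectral
import Groth.Agent.Lib.LimDescend.Property
import Groth.Agent.Lib.FlatLimit.Affine
import Groth.Agent.Lib.GeomRed6.Locus

/-!
# The components through a section are a neighbourhood at reduced fibres
-/

set_option autoImplicit false
set_option linter.style.haveILetI false

universe u

open CategoryTheory CategoryTheory.Limits AlgebraicGeometry TopologicalSpace Topology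

namespace GrothLib.SecComp6

theorem component_subset_interior_noetherian {X Y : Scheme.{u}} (f : X ⟶ Y) (s : Y ⟶ X) (hs : s ≫ f = 𝟙 Y)
    [LocallyOfFiniteType f] [QuasiCompact f] [Flat f] [AlgebraicGeometry.IsNoetherian Y] [AlgebraicGeometry.IsNoetherian X]
    (y : Y) (hy : GeometricallyReduced (f.fiberToSpecResidueField y)) :
    connectedComponentIn (f ⁻¹' {y}) (s y) ⊆ interior (MoreMor.sectionComponents f s) := by
  intro x hx
  have hfx : f x = y := (connectedComponentIn_subset (f ⁻¹' {y}) (s y)) hx
  have hxE : x ∈ MoreMor.sectionComponents f s := by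
    show x ∈ connectedComponentIn (f ⁻¹' {f x}) (s (f x))
    rw [hfx]; exact hx
  rw [interior_eq_compl_closure_compl]
  intro hcl
  haveI : SpectralSpace X := {}
  obtain ⟨e, he, hsp⟩ := SpecSp.exists_specializes_of_mem_closure
    (Constr.isClosed_constructibleTopology_of_isConstructible (isConstructible_noetherian f s hs).compl) hcl
  obtain ⟨D, _, _, _, h, hgen, hclosed⟩ := SubtrLim.exists_dvr_map hsp
  let t := h ≫ f
  let g := pullback.snd f t
  haveI : LocallyOfFiniteType g := MorphismProperty.pullback_snd f t inferInstance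
  haveI : QuasiCompact g := MorphismProperty.pullback_snd f t inferInstance
  haveI : Flat g := MorphismProperty.pullback_snd f t inferInstance
  let σ : Spec (CommRingCat.of D) ⟶ pullback f t := pullback.lift (t ≫ s) (𝟙 _)
    (by rw [Category.assoc, hs, Category.comp_id, Category.id_comp])
  let τ : Spec (CommRingCat.of D) ⟶ pullback f t := pullback.lift h (𝟙 _) (Category.id_comp _).symm
  have hsec := sectionComponents_baseChange f s hs g (pullback.fst f t) t (IsPullback.of_hasPullback f t) σ
    (pullback.lift_snd _ _ _) (pullback.lift_fst _ _ _)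
  obtain ⟨ϖ, hϖ⟩ := IsDiscreteValuationRing.exists_irreducible D
  have hred : IsReduced (pullback g (Spec.map (CommRingCat.ofHom (Ideal.Quotient.mk (Ideal.span {ϖ}))))) := by
    haveI hmax : (Ideal.span {ϖ}).IsMaximal := hϖ.maximalIdeal_eq ▸ IsLocalRing.maximalIdeal.isMaximal D
    letI : Field (D ⧸ Ideal.span {ϖ}) := Ideal.Quotient.field _
    let t₀ := Spec.map (CommRingCat.ofHom (Ideal.Quotient.mk (Ideal.span {ϖ})))
    have hpt : GeomRed6.pt (t₀ ≫ t) = y := by
      show f (h (t₀ (IsLocalRing.closedPoint (D ⧸ Ideal.span {ϖ})))) = y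
      rw [← hfx]
      congr 1
      rw [← hclosed]
      congr 1
      refine PrimeSpectrum.ext ?_
      show Ideal.comap (Ideal.Quotient.mk (Ideal.span {ϖ})) (IsLocalRing.maximalIdeal _) = IsLocalRing.maximalIdeal D
      rw [IsLocalRing.maximalIdeal_eq_bot, ← RingHom.ker_eq_comap_bot, Ideal.mk_ker, hϖ.maximalIdeal_eq]
    subst hpt
    obtain ⟨σ', π, hπ⟩ := GeomRed6.exists_isPullback_fiber_point f (t₀ ≫ t)
    haveI : IsReduced (pullback f (t₀ ≫ t)) := hy.geometrically_isReduced _ _ _ hπ
    exact isReduced_of_isOpenImmersion (pullbackLeftPullbackSndIso f t t₀).hom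
  have hmem : τ (HTop.closed (CommRingCat.of D)) ∈ MoreMor.sectionComponents g σ := by
    rw [hsec]
    show pullback.fst f t (τ _) ∈ MoreMor.sectionComponents f s
    rw [← Scheme.Hom.comp_apply, pullback.lift_fst]
    exact hclosed.symm ▸ hxE
  have hspτ : τ (HTop.gen (CommRingCat.of D)) ⤳ τ (HTop.closed (CommRingCat.of D)) :=
    ((PrimeSpectrum.le_iff_specializes (HTop.gen (CommRingCat.of D)) (HTop.closed (CommRingCat.of D))).1 bot_le).map
      τ.continuous
  have hgτ : g (τ (HTop.gen (CommRingCat.of D))) = HTop.gen (CommRingCat.of D) := by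
    rw [← Scheme.Hom.comp_apply, pullback.lift_snd]; rfl
  have h1 := generization_mem_sectionComponents_dvr g ϖ hϖ hred σ (pullback.lift_snd _ _ _) hspτ hgτ hmem
  rw [hsec] at h1
  refine he ?_
  have h2 : pullback.fst f t (τ (HTop.gen (CommRingCat.of D))) ∈ MoreMor.sectionComponents f s := h1
  rwa [← Scheme.Hom.comp_apply, pullback.lift_fst, hgen] at h2

open LimDescend in
theorem component_subset_interior_Spec {A : Type u} [CommRing A] {X : Scheme.{u}} (f : X ⟶ Spec (CommRingCat.of A))
    (s : Spec (CommRingCat.of A) ⟶ X) (hs : s ≫ f = 𝟙 _)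
    [LocallyOfFinitePresentation f] [QuasiCompact f] [QuasiSeparated f] [Flat f]
    (y : Spec (CommRingCat.of A)) (hy : GeometricallyReduced (f.fiberToSpecResidueField y)) :
    connectedComponentIn (f ⁻¹' {y}) (s y) ⊆ interior (MoreMor.sectionComponents f s) := by
  let f₁ : X ⟶ (fgCone A).pt := f
  haveI : LocallyOfFinitePresentation f₁ := ‹LocallyOfFinitePresentation f›
  haveI : QuasiCompact f₁ := ‹QuasiCompact f›
  haveI : QuasiSeparated f₁ := ‹QuasiSeparated f›
  haveI : Flat f₁ := ‹Flat f›
  obtain ⟨i, M, hM⟩ := exists_model_property (fgDiagram A) (fgCone A) (isLimitFgCone A) @Flat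
    (fun a b _ ha => by haveI : Flat a := ha; infer_instance) LimDesc.affineCase_flat f₁ ‹Flat f₁›
  let t : (Over.forget i ⋙ fgDiagram A) ⟶ (Functor.const (Over i)).obj ((fgDiagram A).obj i) :=
    { app := fun k => (fgDiagram A).map k.hom
      naturality := fun a b φ => by
        show (fgDiagram A).map φ.left ≫ (fgDiagram A).map b.hom = (fgDiagram A).map a.hom ≫ 𝟙 _
        rw [Category.comp_id, ← Functor.map_comp, Over.w] }
  haveI : ∀ k : Over i, CompactSpace ((Over.forget i ⋙ fgDiagram A).obj k) := fun k =>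
    inferInstanceAs (CompactSpace ((fgDiagram A).obj k.left))
  haveI : ∀ k : Over i, QuasiSeparatedSpace ((Over.forget i ⋙ fgDiagram A).obj k) := fun k =>
    inferInstanceAs (QuasiSeparatedSpace ((fgDiagram A).obj k.left))
  haveI : ∀ {a b : Over i} (φ : a ⟶ b), IsAffineHom ((Over.forget i ⋙ fgDiagram A).map φ) := fun φ =>
    inferInstanceAs (IsAffineHom ((fgDiagram A).map φ.left))
  let s₁ : (fgCone A).pt ⟶ X := s
  obtain ⟨k, g, hg, hg'⟩ := Scheme.exists_π_app_comp_eq_of_locallyOfFinitePresentation
    (Over.forget i ⋙ fgDiagram A) t M.hom ((fgCone A).whisker (Over.forget i))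
    ((Functor.Initial.isLimitWhiskerEquiv _ _).symm (isLimitFgCone A)) (s₁ ≫ M.proj) (by
      ext k : 2
      show (fgCone A).π.app k.left ≫ (fgDiagram A).map k.hom = (s₁ ≫ M.proj) ≫ M.hom
      rw [(fgCone A).w, Category.assoc, M.isPullback.w, ← Category.assoc]
      show _ = (s ≫ f) ≫ _
      rw [hs]
      exact (Category.id_comp _).symm)
  let N := Model.map (fgDiagram A) (fgCone A) M k.hom
  haveI : Flat N.hom := MorphismProperty.pullback_snd (P := @Flat) _ _ hM
  let s₀ : (fgDiagram A).obj k.left ⟶ N.obj := pullback.lift g (𝟙 _) (by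
    rw [Category.id_comp]; exact hg')
  have hs₀ : s₀ ≫ N.hom = 𝟙 _ := pullback.lift_snd _ _ _
  let π : Spec (CommRingCat.of A) ⟶ (fgDiagram A).obj k.left := (fgCone A).π.app k.left
  have hcompat : s ≫ N.proj = π ≫ s₀ := by
    apply pullback.hom_ext
    · simp only [N, s₀, Model.map, Category.assoc, pullback.lift_fst]
      exact hg.symm
    · simp only [N, s₀, Model.map, Category.assoc, pullback.lift_snd]
      show s ≫ f ≫ π = π ≫ 𝟙 _
      rw [← Category.assoc, hs, Category.id_comp, Category.comp_id]
  haveI : Algebra.FiniteType ℤ k.left.unop.1 := k.left.unop.1.fg_iff_finiteType.mp k.left.unop.2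
  haveI : IsNoetherianRing k.left.unop.1 := Algebra.FiniteType.isNoetherianRing ℤ k.left.unop.1
  haveI : AlgebraicGeometry.IsNoetherian ((fgDiagram A).obj k.left) :=
    inferInstanceAs (AlgebraicGeometry.IsNoetherian (Spec (CommRingCat.of k.left.unop.1)))
  haveI : IsLocallyNoetherian N.obj := LocallyOfFiniteType.isLocallyNoetherian N.hom
  haveI : CompactSpace N.obj := QuasiCompact.compactSpace_of_compactSpace N.hom
  haveI : AlgebraicGeometry.IsNoetherian N.obj := {}
  have hpb : IsPullback N.proj f N.hom π := N.isPullback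
  have hsec := sectionComponents_baseChange N.hom s₀ hs₀ f N.proj π hpb s hs hcompat
  have hy₀ : GeometricallyReduced (N.hom.fiberToSpecResidueField (π y)) :=
    (FibreBC.geometricallyReduced_fiber_iff hpb y).1 hy
  intro x hx
  have hfx : f x = y := (connectedComponentIn_subset (f ⁻¹' {y}) (s y)) hx
  have hxE : x ∈ MoreMor.sectionComponents f s := by
    show x ∈ connectedComponentIn (f ⁻¹' {f x}) (s (f x))
    rw [hfx]; exact hx
  rw [hsec] at hxE ⊢
  have hNx : N.hom (N.proj x) = π y := by
    rw [← Scheme.Hom.comp_apply, hpb.w, Scheme.Hom.comp_apply, hfx]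
  have hin : N.proj x ∈ connectedComponentIn (N.hom ⁻¹' {π y}) (s₀ (π y)) := by
    have h0 : N.proj x ∈ connectedComponentIn (N.hom ⁻¹' {N.hom (N.proj x)}) (s₀ (N.hom (N.proj x))) := hxE
    rwa [hNx] at h0
  exact preimage_interior_subset_interior_preimage N.proj.continuous
    (component_subset_interior_noetherian N.hom s₀ hs₀ (π y) hy₀ hin)

theorem component_subset_interior {X Y : Scheme.{u}} (f : X ⟶ Y) (s : Y ⟶ X) (hs : s ≫ f = 𝟙 Y)
    [LocallyOfFinitePresentation f] [QuasiCompact f] [QuasiSeparated f] [Flat f]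
    (y : Y) (hy : GeometricallyReduced (f.fiberToSpecResidueField y)) :
    connectedComponentIn (f ⁻¹' {y}) (s y) ⊆ interior (MoreMor.sectionComponents f s) := by
  intro x hx
  have hfx : f x = y := (connectedComponentIn_subset (f ⁻¹' {y}) (s y)) hx
  obtain ⟨_, ⟨(V : Y.Opens), hV, rfl⟩, hyV, -⟩ := Y.isBasis_affineOpens.exists_subset_of_mem_open
    (Set.mem_univ y) isOpen_univ
  let j := hV.fromSpec
  obtain ⟨p, hp⟩ : ∃ p, j p = y := hV.range_fromSpec.ge hyV
  let f' := pullback.snd f j
  let g' := pullback.fst f j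
  haveI : LocallyOfFinitePresentation f' := MorphismProperty.pullback_snd f _ inferInstance
  haveI : QuasiCompact f' := MorphismProperty.pullback_snd f _ inferInstance
  haveI : QuasiSeparated f' := MorphismProperty.pullback_snd f _ inferInstance
  haveI : Flat f' := MorphismProperty.pullback_snd f _ inferInstance
  let s' : Spec Γ(Y, V) ⟶ pullback f j :=
    pullback.lift (j ≫ s) (𝟙 _) (by rw [Category.assoc, hs, Category.comp_id, Category.id_comp])
  have hsec := sectionComponents_baseChange f s hs f' g' j (IsPullback.of_hasPullback f j) s'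
    (pullback.lift_snd _ _ _) (pullback.lift_fst _ _ _)
  have hy' : GeometricallyReduced (f'.fiberToSpecResidueField p) :=
    (FibreBC.geometricallyReduced_fiber_iff (IsPullback.of_hasPullback f j) p).2 (hp.symm ▸ hy)
  obtain ⟨x', hx'⟩ : ∃ x', g' x' = x := (Scheme.Pullback.range_fst (f := f) (g := j)).ge ⟨p, hp.trans hfx.symm⟩
  have hfp : f' x' = p := j.isOpenEmbedding.injective (by
    rw [← Scheme.Hom.comp_apply, ← pullback.condition, Scheme.Hom.comp_apply, show pullback.fst f j x' = x from hx',
      hfx, hp])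
  have hx'E : x' ∈ MoreMor.sectionComponents f' s' := by
    rw [hsec]
    show g' x' ∈ connectedComponentIn (f ⁻¹' {f (g' x')}) (s (f (g' x')))
    rw [hx', hfx]; exact hx
  have hin : x' ∈ connectedComponentIn (f' ⁻¹' {p}) (s' p) := by
    have h0 : x' ∈ connectedComponentIn (f' ⁻¹' {f' x'}) (s' (f' x')) := hx'E
    rwa [hfp] at h0
  have hi := component_subset_interior_Spec (A := Γ(Y, V)) f' s' (pullback.lift_snd _ _ _) p hy' hin
  rw [hsec, ← g'.isOpenEmbedding.isOpenMap.preimage_interior_eq_interior_preimage g'.continuous] at hi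
  exact hx' ▸ hi

end GrothLib.SecComp6
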