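import Groth.Agent.Lib.SecComp6.Smooth
import Groth.Prelude.Def_FDesc

/-!
# The components through a section near a geometrically reduced component
-/

set_option autoImplicit false
set_option linter.style.haveILetI false

universe u

open CategoryTheory CategoryTheory.Limits AlgebraicGeometry TopologicalSpace Topology

namespace GrothLib.SecComp6

/-- Interior points of the components through a section computed inside a quasi-compact open set. -/
theorem mem_interior_of_open {X S : Scheme.{u}} (f : X ⟶ S) [LocallyOfFinitePresentation f] [Flat f]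
    (e : S ⟶ X) (he : e ≫ f = 𝟙 S) (y : S) {V₀ : S.Opens} (hV₀ : IsAffineOpen V₀) (hyV₀ : y ∈ V₀)
    (U : X.Opens) (hUc : IsCompact (U : Set X)) (hUle : U ≤ f ⁻¹ᵁ V₀) (hqs : QuasiSeparatedSpace (U : Scheme.{u}))
    (heU : e y ∈ U) (hred : GeometricallyReduced ((U.ι ≫ f).fiberToSpecResidueField y))
    {x : X} (hx : x ∈ connectedComponentIn ((U : Set X) ∩ f ⁻¹' {y}) (e y)) :
    x ∈ interior (MoreMor.sectionComponents f e) := by
  have hxU : x ∈ U ∧ f x = y := (connectedComponentIn_subset ((U : Set X) ∩ f ⁻¹' {y}) (e y)) hx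
  obtain ⟨r, hrle, hyr⟩ := hV₀.exists_basicOpen_le (V := e ⁻¹ᵁ U) ⟨y, heU⟩ hyV₀
  let V : S.Opens := S.basicOpen r
  let W' : X.Opens := U ⊓ f ⁻¹ᵁ V
  haveI : IsAffine (V : Scheme.{u}) := hV₀.basicOpen r
  have hW'c : IsCompact (W' : Set X) := by
    have : W' = U ⊓ X.basicOpen (f.app V₀ r) := by rw [← Scheme.preimage_basicOpen]
    rw [this]
    have hres : X.basicOpen (X.presheaf.map (homOfLE hUle).op (f.app V₀ r)) = U ⊓ X.basicOpen (f.app V₀ r) :=
      Scheme.basicOpen_res X (f.app V₀ r) (homOfLE hUle).op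
    rw [← hres]
    exact isCompact_basicOpen X hUc (X.presheaf.map (homOfLE hUle).op (f.app V₀ r))
  let f' : (W' : Scheme.{u}) ⟶ (V : Scheme.{u}) := f.resLE V W' inf_le_right
  haveI : LocallyOfFinitePresentation f' := by
    haveI : LocallyOfFinitePresentation (f' ≫ V.ι) := by rw [Scheme.Hom.resLE_comp_ι]; infer_instance
    exact MorphismProperty.of_postcomp (W := @LocallyOfFinitePresentation) f' V.ι
      (inferInstance : IsOpenImmersion V.ι) ‹_›
  haveI : CompactSpace (W' : Scheme.{u}) := isCompact_iff_compactSpace.1 hW'c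
  haveI : QuasiCompact f' := (HasAffineProperty.iff_of_isAffine (P := @QuasiCompact)).2 ‹_›
  haveI : QuasiSeparatedSpace (W' : Scheme.{u}) :=
    (X.homOfLE (inf_le_left : W' ≤ U)).isOpenEmbedding.quasiSeparatedSpace
  haveI : QuasiSeparated f' := inferInstance
  obtain ⟨e', he'⟩ : ∃ e' : (V : Scheme.{u}) ⟶ (W' : Scheme.{u}), e' ≫ W'.ι = V.ι ≫ e :=
    ⟨_, IsOpenImmersion.lift_fac _ _ (by
      rw [Scheme.Opens.range_ι]
      rintro _ ⟨z, rfl⟩
      refine ⟨hrle z.2, ?_⟩
      show f (e (V.ι z)) ∈ V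
      rw [← Scheme.Hom.comp_apply e f, he]
      exact z.2)⟩
  have he'f : e' ≫ f' = 𝟙 _ := by
    rw [← cancel_mono V.ι, Category.assoc, Scheme.Hom.resLE_comp_ι, ← Category.assoc, he', Category.assoc, he,
      Category.comp_id, Category.id_comp]
  let y' : (V : Scheme.{u}) := ⟨y, hyr⟩
  let x' : (W' : Scheme.{u}) := ⟨x, hxU.1, show f x ∈ V from hxU.2.symm ▸ hyr⟩
  have hkey : ∀ z : (W' : Scheme.{u}), f (W'.ι z) = V.ι (f' z) := fun z => by
    rw [← Scheme.Hom.comp_apply, ← Scheme.Hom.comp_apply, Scheme.Hom.resLE_comp_ι]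
  have hred' : GeometricallyReduced (f'.fiberToSpecResidueField y') := by
    have sq : IsPullback (X.homOfLE (inf_le_left : W' ≤ U)) f' (U.ι ≫ f) V.ι := by
      refine (IsOpenImmersion.isPullback f' (X.homOfLE (inf_le_left : W' ≤ U)) V.ι (U.ι ≫ f) ?_ ?_).flip
      · rw [← Category.assoc, Scheme.homOfLE_ι, Scheme.Hom.resLE_comp_ι]
      · ext z
        constructor
        · intro hz
          refine ⟨⟨U.ι z, z.2, ?_⟩, ?_⟩
          · show f (U.ι z) ∈ V
            rw [← Scheme.Hom.comp_apply]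
            exact (show (U.ι ≫ f) z ∈ V.ι.opensRange from hz).choose_spec ▸
              (show (U.ι ≫ f) z ∈ V.ι.opensRange from hz).choose.2
          · refine U.ι.isOpenEmbedding.injective ?_
            rw [← Scheme.Hom.comp_apply, Scheme.homOfLE_ι]
            rfl
        · rintro ⟨w, rfl⟩
          show (U.ι ≫ f) (X.homOfLE (inf_le_left : W' ≤ U) w) ∈ V.ι.opensRange
          rw [← Scheme.Hom.comp_apply, ← Category.assoc, Scheme.homOfLE_ι, Scheme.Hom.comp_apply, hkey]
          exact ⟨f' w, rfl⟩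
    exact (FibreBC.geometricallyReduced_fiber_iff sq y').2 hred
  haveI : Flat f' := inferInstance
  have hxin : x' ∈ connectedComponentIn (f' ⁻¹' {y'}) (e' y') := by
    have hsub : connectedComponentIn ((U : Set X) ∩ f ⁻¹' {y}) (e y) ⊆ W'.ι '' (f' ⁻¹' {y'}) := fun z hz => by
      have h := (connectedComponentIn_subset ((U : Set X) ∩ f ⁻¹' {y}) (e y)) hz
      refine ⟨⟨z, h.1, show f z ∈ V from (show f z = y from h.2).symm ▸ hyr⟩, ?_, rfl⟩
      refine V.ι.isOpenEmbedding.injective ?_
      rw [← hkey]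
      exact h.2
    have hpre : _root_.IsPreconnected (⇑W'.ι ⁻¹' connectedComponentIn ((U : Set X) ∩ f ⁻¹' {y}) (e y)) := by
      rw [← W'.ι.isEmbedding.isInducing.isPreconnected_image,
        Set.image_preimage_eq_of_subset (hsub.trans (Set.image_subset_range _ _))]
      exact isPreconnected_connectedComponentIn
    have hea : W'.ι (e' y') = e y := by
      rw [← Scheme.Hom.comp_apply, he', Scheme.Hom.comp_apply]; rfl
    have hey : e y ∈ (U : Set X) ∩ f ⁻¹' {y} := ⟨heU, by
      show f (e y) = y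
      rw [← Scheme.Hom.comp_apply, he]; rfl⟩
    refine hpre.subset_connectedComponentIn ?_ ?_ (show W'.ι x' ∈ connectedComponentIn _ _ from hx)
    · rw [Set.mem_preimage, hea]; exact mem_connectedComponentIn hey
    · intro z hz
      obtain ⟨z', hz', hzz⟩ := hsub hz
      exact W'.ι.isOpenEmbedding.injective hzz ▸ hz'
  have hint := component_subset_interior f' e' he'f y' hred' hxin
  refine mem_interior.2 ⟨W'.ι '' interior (MoreMor.sectionComponents f' e'), ?_,
    W'.ι.isOpenEmbedding.isOpenMap _ isOpen_interior, ⟨x', hint, rfl⟩⟩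
  rintro _ ⟨z, hz, rfl⟩
  have hzE : z ∈ connectedComponentIn (f' ⁻¹' {f' z}) (e' (f' z)) :=
    interior_subset (s := MoreMor.sectionComponents f' e') hz
  show W'.ι z ∈ connectedComponentIn (f ⁻¹' {f (W'.ι z)}) (e (f (W'.ι z)))
  have hez : W'.ι (e' (f' z)) = e (f (W'.ι z)) := by
    rw [← Scheme.Hom.comp_apply, he', Scheme.Hom.comp_apply, hkey]
  rw [← hez]
  have hne : e' (f' z) ∈ f' ⁻¹' {f' z} := by
    show f' (e' (f' z)) = f' z
    rw [← Scheme.Hom.comp_apply, he'f]; rfl
  refine (isPreconnected_connectedComponentIn.image _ W'.ι.continuous.continuousOn).subset_connectedComponentIn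
    ⟨_, mem_connectedComponentIn hne, rfl⟩ ?_ ⟨z, hzE, rfl⟩
  rintro _ ⟨v, hv, rfl⟩
  show f (W'.ι v) = f (W'.ι z)
  rw [hkey, hkey, show f' v = f' z from (connectedComponentIn_subset (⇑f' ⁻¹' {f' z}) (e' (f' z))) hv]

/-- An open piece of a fibre all of whose points are geometrically reduced is geometrically reduced. -/
theorem geometricallyReduced_fiber_open {X S : Scheme.{u}} (f : X ⟶ S) (y : S) (U : X.Opens)
    (h : ∀ z : f.fiber y, f.fiberι y z ∈ U → FBase.IsGeomReducedAt (f.fiberToSpecResidueField y) z) :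
    GeometricallyReduced ((U.ι ≫ f).fiberToSpecResidueField y) := by
  let ff := f.fiberToSpecResidueField y
  let gg := (U.ι ≫ f).fiberToSpecResidueField y
  let j : (U.ι ≫ f).fiber y ⟶ f.fiber y := pullback.lift ((U.ι ≫ f).fiberι y ≫ U.ι) gg (by
    rw [Category.assoc]; exact pullback.condition)
  have hjff : j ≫ ff = gg := pullback.lift_snd _ _ _
  have sqj : IsPullback ((U.ι ≫ f).fiberι y) j U.ι (f.fiberι y) := by
    refine IsPullback.of_bot ?_ (pullback.lift_fst _ _ _).symm (IsPullback.of_hasPullback f (S.fromSpecResidueField y))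
    refine Eq.mpr (congrArg (fun φ => IsPullback _ φ _ _) hjff) ?_
    exact IsPullback.of_hasPullback _ _
  haveI : IsOpenImmersion j := MorphismProperty.of_isPullback sqj (inferInstance : IsOpenImmersion U.ι)
  refine ⟨fun K _ t Z fst snd hsq => ?_⟩
  obtain ⟨φ, rfl⟩ := Spec.map_surjective t
  letI : Algebra (IsLocalRing.ResidueField (S.presheaf.stalk y)) K := φ.hom.toAlgebra
  let k : Z ⟶ FBase.bc ff K := pullback.lift (fst ≫ j) snd (by
    rw [Category.assoc]; exact (congrArg (fst ≫ ·) hjff).trans hsq.w)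
  have hk₁ : k ≫ FBase.bcπ ff K = fst ≫ j := pullback.lift_fst _ _ _
  have hk₂ : k ≫ pullback.snd _ _ = snd := pullback.lift_snd _ _ _
  have sqk : IsPullback fst k j (FBase.bcπ ff K) := by
    refine IsPullback.of_bot ?_ hk₁.symm (IsPullback.of_hasPullback ff _)
    refine Eq.mpr (congrArg (fun φ => IsPullback _ φ _ _) hk₂) ?_
    exact Eq.mpr (congrArg (fun φ => IsPullback _ _ φ _) hjff) hsq
  haveI : IsOpenImmersion k := MorphismProperty.of_isPullback sqk ‹IsOpenImmersion j›
  haveI : ∀ z : Z, _root_.IsReduced (Z.presheaf.stalk z) := fun z => by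
    have hz : f.fiberι y (j (fst z)) ∈ U := by
      rw [← Scheme.Hom.comp_apply, show j ≫ f.fiberι y = (U.ι ≫ f).fiberι y ≫ U.ι from pullback.lift_fst _ _ _]
      exact ((U.ι ≫ f).fiberι y (fst z)).2
    haveI := h (j (fst z)) hz K (k z) (congrArg (fun φ : Z ⟶ f.fiber y => φ z) hk₁)
    exact isReduced_of_injective (inv (k.stalkMap z)).hom (ConcreteCategory.bijective_of_isIso _).1
  exact isReduced_of_isReduced_stalk Z

theorem component_subset_interior_of_geomReducedAt {X Y : Scheme.{u}} (f : X ⟶ Y) [Flat f]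
    [LocallyOfFinitePresentation f] [QuasiCompact f] [QuasiSeparated f] (g : Y ⟶ X) (hg : g ≫ f = 𝟙 Y) (y : Y)
    (hred : ∀ x' : ↥(f.fiber y), f.fiberι y x' ∈ connectedComponentIn (f ⁻¹' {y}) (g y) →
      FBase.IsGeomReducedAt (f.fiberToSpecResidueField y) x') :
    connectedComponentIn (f ⁻¹' {y}) (g y) ⊆ interior (MoreMor.sectionComponents f g) := by
  classical
  intro x hx
  haveI : LocallyOfFiniteType (f.fiberToSpecResidueField y) := MorphismProperty.pullback_snd f _ inferInstance
  haveI : IsLocallyNoetherian (f.fiber y) := LocallyOfFiniteType.isLocallyNoetherian (f.fiberToSpecResidueField y)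
  haveI : CompactSpace (f.fiber y) := QuasiCompact.compactSpace_of_compactSpace (f.fiberToSpecResidueField y)
  haveI : AlgebraicGeometry.IsNoetherian (f.fiber y) := {}
  have hgy : f (g y) = y := by rw [← Scheme.Hom.comp_apply, hg]; rfl
  obtain ⟨a, ha⟩ := (f.range_fiberι y).ge hgy
  have hCeq : connectedComponentIn (f ⁻¹' {y}) (g y) = f.fiberι y '' connectedComponent a := by
    rw [← ha, ← f.range_fiberι y, connectedComponentIn_range (f.fiberι y).isEmbedding]
  have hCopen : IsOpen (connectedComponent a) := by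
    refine isOpen_iff_forall_mem_open.2 fun z hz => ?_
    refine ⟨(⋃ Z ∈ {Z ∈ irreducibleComponents (f.fiber y) | z ∉ Z}, Z)ᶜ, fun w hw => ?_,
      (Set.Finite.isClosed_biUnion (NoetherianSpace.finite_irreducibleComponents.subset fun Z hZ => hZ.1)
        fun Z hZ => isClosed_of_mem_irreducibleComponents Z hZ.1).isOpen_compl, fun hmem => ?_⟩
    · have hzw : z ∈ irreducibleComponent w := by
        by_contra hc
        exact hw (Set.mem_biUnion (x := irreducibleComponent w)
          ⟨irreducibleComponent_mem_irreducibleComponents w, hc⟩ mem_irreducibleComponent)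
      rw [connectedComponent_eq hz]
      exact isIrreducible_irreducibleComponent.isConnected.subset_connectedComponent hzw mem_irreducibleComponent
    · obtain ⟨Z, hZ, hzZ⟩ := Set.mem_iUnion₂.1 hmem
      exact hZ.2 hzZ
  obtain ⟨O, hO, hOC⟩ := (f.fiberι y).isEmbedding.isInducing.isOpen_iff.1 hCopen
  obtain ⟨_, ⟨(V₀ : Y.Opens), hV₀, rfl⟩, hyV₀, -⟩ := Y.isBasis_affineOpens.exists_subset_of_mem_open
    (Set.mem_univ y) isOpen_univ
  let P : X.Opens := ⟨O, hO⟩ ⊓ f ⁻¹ᵁ V₀
  have hchoose : ∀ q ∈ connectedComponent a, ∃ W : X.Opens, IsAffineOpen W ∧ f.fiberι y q ∈ W ∧ W ≤ P := by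
    intro q hq
    have hqP : f.fiberι y q ∈ P := ⟨hOC.ge hq, by
      show f (f.fiberι y q) ∈ V₀
      rw [(f.range_fiberι y).le ⟨q, rfl⟩]
      exact hyV₀⟩
    obtain ⟨_, ⟨W, hW, rfl⟩, hqW, hWP⟩ := X.isBasis_affineOpens.exists_subset_of_mem_open hqP P.isOpen
    exact ⟨W, hW, hqW, hWP⟩
  choose! W hW hqW hWP using hchoose
  obtain ⟨t, htC, htfin, htcov⟩ := (isClosed_connectedComponent.isCompact (s := connectedComponent a)).elim_finite_subcover_image
    (b := connectedComponent a) (c := fun q => ⇑(f.fiberι y) ⁻¹' (W q : Set X))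
    (fun q _ => (W q).isOpen.preimage (f.fiberι y).continuous) (fun q hq => Set.mem_biUnion hq (hqW q hq))
  let U : X.Opens := ⨆ q ∈ htfin.toFinset, W q
  have hUP : U ≤ P := iSup₂_le fun q hq => hWP q (htC (htfin.mem_toFinset.1 hq))
  have hUset : (U : Set X) = ⋃ q ∈ htfin.toFinset, (W q : Set X) := by simp [U]
  have hUc : IsCompact (U : Set X) := hUset ▸
    htfin.toFinset.isCompact_biUnion fun q hq => (hW q (htC (htfin.mem_toFinset.1 hq))).isCompact
  have hCU : ∀ q ∈ connectedComponent a, f.fiberι y q ∈ U := fun q hq => by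
    obtain ⟨q', hq', hqq⟩ := Set.mem_iUnion₂.1 (htcov hq)
    exact hUset.ge (Set.mem_biUnion (htfin.mem_toFinset.2 hq') hqq)
  have hUC : ∀ q, f.fiberι y q ∈ U → q ∈ connectedComponent a := fun q hq => hOC.le (hUP hq).1
  have hUV : U ≤ f ⁻¹ᵁ V₀ := hUP.trans inf_le_right
  haveI : IsAffine (V₀ : Scheme.{u}) := hV₀
  haveI : QuasiSeparatedSpace (f ⁻¹ᵁ V₀ : Scheme.{u}) :=
    quasiSeparatedSpace_of_quasiSeparated (f ∣_ V₀)
  haveI hqs : QuasiSeparatedSpace (U : Scheme.{u}) := (X.homOfLE hUV).isOpenEmbedding.quasiSeparatedSpace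
  refine mem_interior_of_open f g hg y hV₀ hyV₀ U hUc hUV hqs (ha ▸ hCU a mem_connectedComponent)
    (geometricallyReduced_fiber_open f y U fun z hz => hred z (hCeq.ge ⟨z, hUC z hz, rfl⟩)) ?_
  have hCI : connectedComponentIn (f ⁻¹' {y}) (g y) ⊆ (U : Set X) ∩ f ⁻¹' {y} := fun z hz => by
    refine ⟨?_, (connectedComponentIn_subset (f ⁻¹' {y}) (g y)) hz⟩
    obtain ⟨q, hq, rfl⟩ := hCeq.le hz
    exact hCU q hq
  exact isPreconnected_connectedComponentIn.subset_connectedComponentIn (mem_connectedComponentIn (show g y ∈ f ⁻¹' {y} from hgy)) hCI hx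

end GrothLib.SecComp6
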